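import Cfsg.Agent.Coset.G24.Field

/-! Words connecting the two generating sets of the triple cover of the third Janko group. -/

set_option autoImplicit false
set_option maxRecDepth 100000

namespace CfsgLib.J3Local

open CfsgLib.Coset.G24

/-- Words in the four involutions for the defining matrices, by kind and index. -/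
def genWords : List (List (List Nat)) := [[[],
    [0, 2, 1, 3, 1, 2, 0, 2, 1, 0, 3, 2, 1, 2, 3, 2, 3, 0, 2, 1, 0, 0, 2, 1, 3, 1, 2, 0, 2, 1, 0, 3, 2, 1, 2, 3, 2, 3, 0, 2, 1, 0, 0, 2, 1, 3, 1, 2, 0, 2, 1, 0, 3, 2, 1, 2, 3, 2, 3, 0, 2, 1, 0, 2, 0, 2, 1, 0, 2, 1, 2, 0, 1, 0, 3, 2, 0, 3, 0, 1, 0, 2, 1, 3, 1, 2, 0, 2, 1, 0, 3, 2, 1, 2, 3, 2, 3, 0, 2, 1, 0, 0, 2, 1, 3, 1, 2, 0, 2, 1, 0, 3, 2, 1, 2, 3, 2, 3, 0, 2, 1, 0, 2, 0, 2, 1, 0, 2, 1, 2, 0, 1, 0, 3, 2, 0, 3, 0, 1, 0, 2, 1, 3, 1, 2, 0, 2, 1, 0, 3, 2, 1, 2, 3, 2, 3, 0, 2, 1, 0, 2, 0, 2, 1, 0, 2, 1, 2, 0, 1, 0, 3, 2, 0, 3, 0, 1],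
    [2, 0, 2, 1, 0, 2, 1, 2, 0, 1, 0, 3, 2, 0, 3, 0, 1, 0, 2, 1, 3, 1, 2, 0, 2, 1, 0, 3, 2, 1, 2, 3, 2, 3, 0, 2, 1, 0, 2, 0, 2, 1, 0, 2, 1, 2, 0, 1, 0, 3, 2, 0, 3, 0, 1, 0, 2, 1, 3, 1, 2, 0, 2, 1, 0, 3, 2, 1, 2, 3, 2, 3, 0, 2, 1, 0, 0, 2, 1, 3, 1, 2, 0, 2, 1, 0, 3, 2, 1, 2, 3, 2, 3, 0, 2, 1, 0, 2, 0, 2, 1, 0, 2, 1, 2, 0, 1, 0, 3, 2, 0, 3, 0, 1],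
    [3, 1, 2, 3, 0, 2, 1, 3, 0, 3, 2, 1, 3, 0, 1, 0, 3, 1, 2, 2, 0, 2, 1, 0, 2, 1, 2, 0, 1, 0, 3, 2, 0, 3, 0, 1, 3, 1, 2, 3, 0, 2, 1, 3, 0, 3, 2, 1, 3, 0, 1, 0, 3, 1, 2, 0, 2, 1, 3, 1, 2, 0, 2, 1, 0, 3, 2, 1, 2, 3, 2, 3, 0, 2, 1, 0, 2, 0, 2, 1, 0, 2, 1, 2, 0, 1, 0, 3, 2, 0, 3, 0, 1],
    [0, 2, 1, 3, 1, 2, 0, 2, 1, 0, 3, 2, 1, 2, 3, 2, 3, 0, 2, 1, 0, 0, 2, 1, 3, 1, 2, 0, 2, 1, 0, 3, 2, 1, 2, 3, 2, 3, 0, 2, 1, 0, 0, 2, 1, 3, 1, 2, 0, 2, 1, 0, 3, 2, 1, 2, 3, 2, 3, 0, 2, 1, 0, 2, 0, 2, 1, 0, 2, 1, 2, 0, 1, 0, 3, 2, 0, 3, 0, 1, 2, 0, 2, 1, 0, 2, 1, 2, 0, 1, 0, 3, 2, 0, 3, 0, 1, 0, 2, 1, 3, 1, 2, 0, 2, 1, 0, 3, 2, 1, 2, 3,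 2, 3, 0, 2, 1, 0, 0, 2, 1, 3, 1, 2, 0, 2, 1, 0, 3, 2, 1, 2, 3, 2, 3, 0, 2, 1, 0, 2, 0, 2, 1, 0, 2, 1, 2, 0, 1, 0, 3, 2, 0, 3, 0, 1],
    [0, 2, 1, 3, 1, 2, 0, 2, 1, 0, 3, 2, 1, 2, 3, 2, 3, 0, 2, 1, 0, 0, 2, 1, 3, 1, 2, 0, 2, 1, 0, 3, 2, 1, 2, 3, 2, 3, 0, 2, 1, 0, 2, 0, 2, 1, 0, 2, 1, 2, 0, 1, 0, 3, 2, 0, 3, 0, 1, 3, 1, 2, 3, 0, 2, 1, 3, 0, 3, 2, 1, 3, 0, 1, 0, 3, 1, 2, 0, 2, 1, 3, 1, 2, 0, 2, 1, 0, 3, 2, 1, 2, 3, 2, 3, 0, 2, 1, 0, 0, 2, 1, 3, 1, 2, 0, 2, 1, 0, 3, 2, 1, 2, 3, 2, 3, 0, 2, 1, 0, 0, 2, 1, 3, 1, 2, 0, 2, 1, 0, 3, 2, 1, 2, 3, 2, 3, 0, 2, 1, 0, 2, 0, 2, 1, 0, 2, 1, 2, 0, 1, 0, 3, 2, 0, 3, 0, 1, 3, 1, 2, 3,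 0, 2, 1, 3, 0, 3, 2, 1, 3, 0, 1, 0, 3, 1, 2],
    [2, 0, 2, 1, 0, 2, 1, 2, 0, 1, 0, 3, 2, 0, 3, 0, 1, 2, 0, 2, 1, 0, 2, 1, 2, 0, 1, 0, 3, 2, 0, 3, 0, 1, 2, 0, 2, 1, 0, 2, 1, 2, 0, 1, 0, 3, 2, 0, 3, 0, 1, 0, 2, 1, 3, 1, 2, 0, 2, 1, 0, 3, 2, 1, 2, 3, 2, 3, 0, 2, 1, 0, 3, 1, 2, 3, 0, 2, 1, 3, 0, 3, 2, 1, 3, 0, 1, 0, 3, 1, 2, 2, 0, 2, 1, 0, 2, 1, 2, 0, 1, 0, 3, 2, 0, 3, 0, 1, 3, 1, 2, 3, 0, 2, 1, 3, 0, 3, 2, 1, 3, 0, 1, 0, 3, 1, 2, 2, 0, 2, 1, 0, 2, 1, 2, 0, 1, 0, 3, 2, 0, 3, 0, 1, 0, 2, 1, 3, 1, 2, 0, 2, 1, 0, 3, 2, 1, 2, 3, 2, 3, 0, 2, 1, 0],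
    [0, 2, 1, 3, 1, 2, 0, 2, 1, 0, 3, 2, 1, 2, 3, 2, 3, 0, 2, 1, 0, 2, 0, 2, 1, 0, 2, 1, 2, 0, 1, 0, 3, 2, 0, 3, 0, 1, 0, 2, 1, 3, 1, 2, 0, 2, 1, 0, 3, 2, 1, 2, 3, 2, 3, 0, 2, 1, 0, 3, 1, 2, 3, 0, 2, 1, 3, 0, 3, 2, 1, 3, 0, 1, 0, 3, 1, 2, 2, 0, 2, 1, 0, 2, 1, 2, 0, 1, 0, 3, 2, 0, 3, 0, 1, 0, 2, 1, 3, 1, 2, 0, 2, 1, 0, 3, 2, 1, 2, 3, 2, 3, 0, 2, 1, 0, 3, 1, 2, 3, 0, 2, 1, 3, 0, 3, 2, 1, 3, 0, 1, 0, 3, 1, 2],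
    [2, 0, 2, 1, 0, 2, 1, 2, 0, 1, 0, 3, 2, 0, 3, 0, 1, 0, 2, 1, 3, 1, 2, 0, 2, 1, 0, 3, 2, 1, 2, 3, 2, 3, 0, 2, 1, 0, 0, 2, 1, 3, 1, 2, 0, 2, 1, 0, 3, 2, 1, 2, 3, 2, 3, 0, 2, 1, 0, 0, 2, 1, 3, 1, 2, 0, 2, 1, 0, 3, 2, 1, 2, 3, 2, 3, 0, 2, 1, 0, 2, 0, 2, 1, 0, 2, 1, 2, 0, 1, 0, 3, 2, 0, 3, 0, 1, 0, 2, 1, 3, 1, 2, 0, 2, 1, 0, 3, 2, 1, 2, 3, 2, 3, 0, 2, 1, 0, 2, 0, 2, 1, 0, 2, 1, 2, 0, 1, 0, 3, 2, 0, 3, 0, 1]],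
  [[2, 0, 2, 1, 0, 2, 1, 2, 0, 1, 0, 3, 2, 0, 3, 0, 1, 2, 0, 2, 1, 0, 2, 1, 2, 0, 1, 0, 3, 2, 0, 3, 0, 1, 0, 2, 1, 3, 1, 2, 0, 2, 1, 0, 3, 2, 1, 2, 3, 2, 3, 0, 2, 1, 0, 3, 1, 2, 3, 0, 2, 1, 3, 0, 3, 2, 1, 3, 0, 1, 0, 3, 1, 2, 3, 1, 2, 3, 0, 2, 1, 3, 0, 3, 2, 1, 3, 0, 1, 0, 3, 1, 2, 0, 2, 1, 3, 1, 2, 0, 2, 1, 0, 3, 2, 1, 2, 3, 2, 3, 0, 2, 1, 0, 0, 2, 1, 3, 1, 2, 0, 2, 1, 0, 3, 2, 1, 2, 3, 2, 3, 0, 2, 1, 0],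
    [3, 1, 2, 3, 0, 2, 1, 3, 0, 3, 2, 1, 3, 0, 1, 0, 3, 1, 2, 2, 0, 2, 1, 0, 2, 1, 2, 0, 1, 0, 3, 2, 0, 3, 0, 1, 0, 2, 1, 3, 1, 2, 0, 2, 1, 0, 3, 2, 1, 2, 3, 2, 3, 0, 2, 1, 0, 2, 0, 2, 1, 0, 2, 1, 2, 0, 1, 0, 3, 2, 0, 3, 0, 1, 0, 2, 1, 3, 1, 2, 0, 2, 1, 0, 3, 2, 1, 2, 3, 2, 3, 0, 2, 1, 0, 3, 1, 2, 3, 0, 2, 1, 3, 0, 3, 2, 1, 3, 0, 1, 0, 3, 1, 2, 2, 0, 2, 1, 0, 2, 1, 2, 0, 1, 0, 3, 2, 0, 3, 0, 1, 0, 2, 1, 3, 1, 2, 0, 2, 1, 0, 3, 2, 1, 2, 3, 2, 3, 0, 2, 1, 0],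
    [2, 0, 2, 1, 0, 2, 1, 2, 0, 1, 0, 3, 2, 0, 3, 0, 1, 3, 1, 2, 3, 0, 2, 1, 3, 0, 3, 2, 1, 3, 0, 1, 0, 3, 1, 2, 0, 2, 1, 3, 1, 2, 0, 2, 1, 0, 3, 2, 1, 2, 3, 2, 3, 0, 2, 1, 0, 2, 0, 2, 1, 0, 2, 1, 2, 0, 1, 0, 3, 2, 0, 3, 0, 1, 2, 0, 2, 1, 0, 2, 1, 2, 0, 1, 0, 3, 2, 0, 3, 0, 1, 3, 1, 2, 3, 0, 2, 1, 3, 0, 3, 2, 1, 3, 0, 1, 0, 3, 1, 2],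
    [0, 2, 1, 3, 1, 2, 0, 2, 1, 0, 3, 2, 1, 2, 3, 2, 3, 0, 2, 1, 0, 2, 0, 2, 1, 0, 2, 1, 2, 0, 1, 0, 3, 2, 0, 3, 0, 1, 3, 1, 2, 3, 0, 2, 1, 3, 0, 3, 2, 1, 3, 0, 1, 0, 3, 1, 2, 0, 2, 1, 3, 1, 2, 0, 2, 1, 0, 3, 2, 1, 2, 3, 2, 3, 0, 2, 1, 0, 0, 2, 1, 3, 1, 2, 0, 2, 1, 0, 3, 2, 1, 2, 3, 2, 3, 0, 2, 1, 0, 3, 1, 2, 3, 0, 2, 1, 3, 0, 3, 2, 1, 3, 0, 1, 0, 3, 1, 2, 2, 0, 2, 1, 0, 2, 1, 2, 0, 1, 0, 3, 2, 0, 3, 0, 1, 3, 1, 2, 3, 0, 2, 1, 3, 0, 3, 2, 1, 3, 0, 1, 0, 3, 1, 2, 3, 1, 2, 3, 0, 2, 1, 3, 0, 3, 2, 1, 3, 0, 1, 0, 3, 1, 2],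
    [2, 0, 2, 1, 0, 2, 1, 2, 0, 1, 0, 3, 2, 0, 3, 0, 1, 2, 0, 2, 1, 0, 2, 1, 2, 0, 1, 0, 3, 2, 0, 3, 0, 1, 2, 0, 2, 1, 0, 2, 1, 2, 0, 1, 0, 3, 2, 0, 3, 0, 1, 0, 2, 1, 3, 1, 2, 0, 2, 1, 0, 3, 2, 1, 2, 3, 2, 3, 0, 2, 1, 0, 2, 0, 2, 1, 0, 2, 1, 2, 0, 1, 0, 3, 2, 0, 3, 0, 1, 0, 2, 1, 3, 1, 2, 0, 2, 1, 0, 3, 2, 1, 2, 3, 2, 3, 0, 2, 1, 0, 0, 2, 1, 3, 1, 2, 0, 2, 1, 0, 3, 2, 1, 2, 3, 2, 3, 0, 2, 1, 0, 0, 2, 1, 3, 1, 2, 0, 2, 1, 0, 3, 2, 1, 2, 3, 2, 3, 0, 2, 1, 0, 2, 0, 2, 1, 0, 2, 1, 2, 0, 1, 0, 3, 2, 0, 3, 0, 1],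
    [2, 0, 2, 1, 0, 2, 1, 2, 0, 1, 0, 3, 2, 0, 3, 0, 1, 0, 2, 1, 3, 1, 2, 0, 2, 1, 0, 3, 2, 1, 2, 3, 2, 3, 0, 2, 1, 0, 2, 0, 2, 1, 0, 2, 1, 2, 0, 1, 0, 3, 2, 0, 3, 0, 1, 2, 0, 2, 1, 0, 2, 1, 2, 0, 1, 0, 3, 2, 0, 3, 0, 1, 3, 1, 2, 3, 0, 2, 1, 3, 0, 3, 2, 1, 3, 0, 1, 0, 3, 1, 2, 2, 0, 2, 1, 0, 2, 1, 2, 0, 1, 0, 3, 2, 0, 3, 0, 1, 3, 1, 2, 3, 0, 2, 1, 3, 0, 3, 2, 1, 3, 0, 1, 0, 3, 1, 2, 0, 2, 1, 3, 1, 2, 0, 2, 1, 0, 3, 2, 1, 2, 3, 2, 3, 0, 2, 1, 0],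
    [2, 0, 2, 1, 0, 2, 1, 2, 0, 1, 0, 3, 2, 0, 3, 0, 1, 2, 0, 2, 1, 0, 2, 1, 2, 0, 1, 0, 3, 2, 0, 3, 0, 1, 2, 0, 2, 1, 0, 2, 1, 2, 0, 1, 0, 3, 2, 0, 3, 0, 1, 2, 0, 2, 1, 0, 2, 1, 2, 0, 1, 0, 3, 2, 0, 3, 0, 1, 3, 1, 2, 3, 0, 2, 1, 3, 0, 3, 2, 1, 3, 0, 1, 0, 3, 1, 2, 2, 0, 2, 1, 0, 2, 1, 2, 0, 1, 0, 3, 2, 0, 3, 0, 1, 2, 0, 2, 1, 0, 2, 1, 2, 0, 1, 0, 3, 2, 0, 3, 0, 1, 3, 1, 2, 3, 0, 2, 1, 3, 0, 3, 2, 1, 3, 0, 1, 0, 3, 1, 2],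
    [0, 2, 1, 3, 1, 2, 0, 2, 1, 0, 3, 2, 1, 2, 3, 2, 3, 0, 2, 1, 0, 3, 1, 2, 3, 0, 2, 1, 3, 0, 3, 2, 1, 3, 0, 1, 0, 3, 1, 2, 2, 0, 2, 1, 0, 2, 1, 2, 0, 1, 0, 3, 2, 0, 3, 0, 1, 0, 2, 1, 3, 1, 2, 0, 2, 1, 0, 3, 2, 1, 2, 3, 2, 3, 0, 2, 1, 0, 3, 1, 2, 3, 0, 2, 1, 3, 0, 3, 2, 1, 3, 0, 1, 0, 3, 1, 2, 0, 2, 1, 3, 1, 2, 0, 2, 1, 0, 3, 2, 1, 2, 3, 2, 3, 0, 2, 1, 0],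
    [3, 1, 2, 3, 0, 2, 1, 3, 0, 3, 2, 1, 3, 0, 1, 0, 3, 1, 2, 3, 1, 2, 3, 0, 2, 1, 3, 0, 3, 2, 1, 3, 0, 1, 0, 3, 1, 2, 3, 1, 2, 3, 0, 2, 1, 3, 0, 3, 2, 1, 3, 0, 1, 0, 3, 1, 2, 3, 1, 2, 3, 0, 2, 1, 3, 0, 3, 2, 1, 3, 0, 1, 0, 3, 1, 2, 3, 1, 2, 3, 0, 2, 1, 3, 0, 3, 2, 1, 3, 0, 1, 0, 3, 1, 2, 2, 0, 2, 1, 0, 2, 1, 2, 0, 1, 0, 3, 2, 0, 3, 0, 1, 3, 1, 2, 3, 0, 2, 1, 3, 0, 3, 2, 1, 3, 0, 1, 0, 3, 1, 2, 3, 1, 2, 3, 0, 2, 1, 3, 0, 3, 2, 1, 3, 0, 1, 0, 3, 1, 2, 3, 1, 2, 3, 0, 2, 1, 3, 0, 3, 2, 1, 3, 0, 1, 0, 3, 1, 2]],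
  [[],
    [1, 0, 2, 1, 3, 0, 2, 1, 3, 1, 2, 0, 2, 1, 0, 3, 2, 1, 2, 3, 2, 3, 0, 2, 1, 0, 0, 2, 1, 3, 1, 2, 0, 2, 1, 0, 3, 2, 1, 2, 3, 2, 3, 0, 2, 1, 0, 0, 2, 1, 3, 1, 2, 0, 2, 1, 0, 3, 2, 1, 2, 3, 2, 3, 0, 2, 1, 0, 0, 2, 1, 3, 1, 2, 0, 2, 1, 0, 3, 2, 1, 2, 3, 2, 3, 0, 2, 1, 0, 2, 0, 2, 1, 0, 2, 1, 2, 0, 1, 0, 3, 2, 0, 3, 0, 1, 2, 0, 2, 1, 0, 2, 1, 2, 0, 1, 0, 3, 2, 0, 3, 0, 1, 3, 1, 2, 3, 0, 2, 1, 3, 0, 3, 2, 1, 3, 0, 1, 0, 3, 1, 2, 3, 1, 2, 3, 0, 2, 1, 3, 0, 3, 2, 1, 3, 0, 1, 0, 3, 1, 2],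
    [0, 3, 2, 0, 1, 3, 1, 0, 3, 3, 1, 2, 3, 0, 2, 1, 3, 0, 3, 2, 1, 3, 0, 1, 0, 3, 1, 2, 0, 2, 1, 3, 1, 2, 0, 2, 1, 0, 3, 2, 1, 2, 3, 2, 3, 0, 2, 1, 0, 3, 1, 2, 3, 0, 2, 1, 3, 0, 3, 2, 1, 3, 0, 1, 0, 3, 1, 2, 0, 2, 1, 3, 1, 2, 0, 2, 1, 0, 3, 2, 1, 2, 3, 2, 3, 0, 2, 1, 0, 2, 0, 2, 1, 0, 2, 1, 2, 0, 1, 0, 3, 2, 0, 3, 0, 1, 3, 1, 2, 3, 0, 2, 1, 3, 0, 3, 2, 1, 3, 0, 1, 0, 3, 1, 2, 0, 2, 1, 3, 1, 2, 0, 2, 1, 0, 3, 2, 1, 2, 3, 2, 3, 0, 2, 1, 0],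
    [1, 3, 2, 0, 3, 0, 2, 0, 2, 1, 0, 2, 1, 2, 0, 1, 0, 3, 2, 0, 3, 0, 1, 2, 0, 2, 1, 0, 2, 1, 2, 0, 1, 0, 3, 2, 0, 3, 0, 1, 2, 0, 2, 1, 0, 2, 1, 2, 0, 1, 0, 3, 2, 0, 3, 0, 1, 0, 2, 1, 3, 1, 2, 0, 2, 1, 0, 3, 2, 1, 2, 3, 2, 3, 0, 2, 1, 0, 0, 2, 1, 3, 1, 2, 0, 2, 1, 0, 3, 2, 1, 2, 3, 2, 3, 0, 2, 1, 0, 3, 1, 2, 3, 0, 2, 1, 3, 0, 3, 2, 1, 3, 0, 1, 0, 3, 1, 2, 3, 1, 2, 3, 0, 2, 1, 3, 0, 3, 2, 1, 3, 0, 1, 0, 3, 1, 2, 2, 0, 2, 1, 0, 2, 1, 2, 0, 1, 0, 3, 2, 0, 3, 0, 1, 0, 2, 1, 3, 1, 2, 0, 2, 1, 0, 3, 2, 1, 2, 3, 2, 3, 0, 2, 1, 0],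
    [2, 3, 2, 3, 0, 2, 3, 1, 2, 0, 1, 2, 0, 2, 1, 0, 2, 1, 2, 0, 1, 0, 3, 2, 0, 3, 0, 1, 2, 0, 2, 1, 0, 2, 1, 2, 0, 1, 0, 3, 2, 0, 3, 0, 1, 0, 2, 1, 3, 1, 2, 0, 2, 1, 0, 3, 2, 1, 2, 3, 2, 3, 0, 2, 1, 0, 2, 0, 2, 1, 0, 2, 1, 2, 0, 1, 0, 3, 2, 0, 3, 0, 1, 3, 1, 2, 3, 0, 2, 1, 3, 0, 3, 2, 1, 3, 0, 1, 0, 3, 1, 2, 0, 2, 1, 3, 1, 2, 0, 2, 1, 0, 3, 2, 1, 2, 3, 2, 3, 0, 2, 1, 0, 0, 2, 1, 3, 1, 2, 0, 2, 1, 0, 3, 2, 1, 2, 3, 2, 3, 0, 2, 1, 0, 2, 0, 2, 1, 0, 2, 1, 2, 0, 1, 0, 3, 2, 0, 3, 0, 1],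
    [0, 3, 2, 1, 2, 0, 3, 1, 3, 2, 2, 0, 2, 1, 0, 2, 1, 2, 0, 1, 0, 3, 2, 0, 3, 0, 1, 0, 2, 1, 3, 1, 2, 0, 2, 1, 0, 3, 2, 1, 2, 3, 2, 3, 0, 2, 1, 0, 3, 1, 2, 3, 0, 2, 1, 3, 0, 3, 2, 1, 3, 0, 1, 0, 3, 1, 2, 2, 0, 2, 1, 0, 2, 1, 2, 0, 1, 0, 3, 2, 0, 3, 0, 1, 2, 0, 2, 1, 0, 2, 1, 2, 0, 1, 0, 3, 2, 0, 3, 0, 1, 3, 1, 2, 3, 0, 2, 1, 3, 0, 3, 2, 1, 3, 0, 1, 0, 3, 1, 2, 2, 0, 2, 1, 0, 2, 1, 2, 0, 1, 0, 3, 2, 0, 3, 0, 1],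
    [3, 1, 3, 1, 0, 3, 1, 3, 0, 2, 2, 0, 2, 1, 0, 2, 1, 2, 0, 1, 0, 3, 2, 0, 3, 0, 1, 0, 2, 1, 3, 1, 2, 0, 2, 1, 0, 3, 2, 1, 2, 3, 2, 3, 0, 2, 1, 0, 2, 0, 2, 1, 0, 2, 1, 2, 0, 1, 0, 3, 2, 0, 3, 0, 1, 0, 2, 1, 3, 1, 2, 0, 2, 1, 0, 3, 2, 1, 2, 3, 2, 3, 0, 2, 1, 0, 2, 0, 2, 1, 0, 2, 1, 2, 0, 1, 0, 3, 2, 0, 3, 0, 1, 0, 2, 1, 3, 1, 2, 0, 2, 1, 0, 3, 2, 1, 2, 3, 2, 3, 0, 2, 1, 0, 0, 2, 1, 3, 1, 2, 0, 2, 1, 0, 3, 2, 1, 2, 3, 2, 3, 0, 2, 1, 0, 0, 2, 1, 3, 1, 2, 0, 2, 1, 0, 3, 2, 1, 2, 3, 2, 3, 0, 2, 1, 0],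
    [2, 1, 2, 3, 2, 0, 1, 3, 0, 2, 1, 3, 1, 2, 0, 2, 1, 0, 3, 2, 1, 2, 3, 2, 3, 0, 2, 1, 0, 0, 2, 1, 3, 1, 2, 0, 2, 1, 0, 3, 2, 1, 2, 3, 2, 3, 0, 2, 1, 0, 2, 0, 2, 1, 0, 2, 1, 2, 0, 1, 0, 3, 2, 0, 3, 0, 1, 0, 2, 1, 3, 1, 2, 0, 2, 1, 0, 3, 2, 1, 2, 3, 2, 3, 0, 2, 1, 0, 0, 2, 1, 3, 1, 2, 0, 2, 1, 0, 3, 2, 1, 2, 3, 2, 3, 0, 2, 1, 0, 3, 1, 2, 3, 0, 2, 1, 3, 0, 3, 2, 1, 3, 0, 1, 0, 3, 1, 2, 3, 1, 2, 3, 0, 2, 1, 3, 0, 3, 2, 1, 3, 0, 1, 0, 3, 1, 2],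
    [3, 1, 3, 2, 1, 2, 2, 0, 2, 1, 0, 2, 1, 2, 0, 1, 0, 3, 2, 0, 3, 0, 1, 2, 0, 2, 1, 0, 2, 1, 2, 0, 1, 0, 3, 2, 0, 3, 0, 1, 2, 0, 2, 1, 0, 2, 1, 2, 0, 1, 0, 3, 2, 0, 3, 0, 1, 3, 1, 2, 3, 0, 2, 1, 3, 0, 3, 2, 1, 3, 0, 1, 0, 3, 1, 2, 3, 1, 2, 3, 0, 2, 1, 3, 0, 3, 2, 1, 3, 0, 1, 0, 3, 1, 2, 2, 0, 2, 1, 0, 2, 1, 2, 0, 1, 0, 3, 2, 0, 3, 0, 1, 0, 2, 1, 3, 1, 2, 0, 2, 1, 0, 3, 2, 1, 2, 3, 2, 3, 0, 2, 1, 0, 2, 0, 2, 1, 0, 2, 1, 2, 0, 1, 0, 3, 2, 0, 3, 0, 1]],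
  [[],
    [2, 0, 2, 1, 0, 2, 1, 2, 0, 1, 0, 3, 2, 0, 3, 0, 1, 2, 0, 2, 1, 0, 2, 1, 2, 0, 1, 0, 3, 2, 0, 3, 0, 1, 0, 2, 1, 3, 1, 2, 0, 2, 1, 0, 3, 2, 1, 2, 3, 2, 3, 0, 2, 1, 0, 2, 0, 2, 1, 0, 2, 1, 2, 0, 1, 0, 3, 2, 0, 3, 0, 1, 2, 0, 2, 1, 0, 2, 1, 2, 0, 1, 0, 3, 2, 0, 3, 0, 1, 0, 2, 1, 3, 1, 2, 0, 2, 1, 0, 3, 2, 1, 2, 3, 2, 3, 0, 2, 1, 0, 2, 0, 2, 1, 0, 2, 1, 2, 0, 1, 0, 3, 2, 0, 3, 0, 1, 2, 0, 2, 1, 0, 2, 1, 2, 0, 1, 0, 3, 2, 0, 3, 0, 1],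
    [0, 2, 1, 3, 1, 2, 0, 2, 1, 0, 3, 2, 1, 2, 3, 2, 3, 0, 2, 1, 0, 3, 1, 2, 3, 0, 2, 1, 3, 0, 3, 2, 1, 3, 0, 1, 0, 3, 1, 2, 2, 0, 2, 1, 0, 2, 1, 2, 0, 1, 0, 3, 2, 0, 3, 0, 1, 0, 2, 1, 3, 1, 2, 0, 2, 1, 0, 3, 2, 1, 2, 3, 2, 3, 0, 2, 1, 0, 3, 1, 2, 3, 0, 2, 1, 3, 0, 3, 2, 1, 3, 0, 1, 0, 3, 1, 2, 2, 0, 2, 1, 0, 2, 1, 2, 0, 1, 0, 3, 2, 0, 3, 0, 1],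
    [],
    [2, 0, 2, 1, 0, 2, 1, 2, 0, 1, 0, 3, 2, 0, 3, 0, 1, 3, 1, 2, 3, 0, 2, 1, 3, 0, 3, 2, 1, 3, 0, 1, 0, 3, 1, 2, 3, 1, 2, 3, 0, 2, 1, 3, 0, 3, 2, 1, 3, 0, 1, 0, 3, 1, 2, 2, 0, 2, 1, 0, 2, 1, 2, 0, 1, 0, 3, 2, 0, 3, 0, 1, 3, 1, 2, 3, 0, 2, 1, 3, 0, 3, 2, 1, 3, 0, 1, 0, 3, 1, 2, 3, 1, 2, 3, 0, 2, 1, 3, 0, 3, 2, 1, 3, 0, 1, 0, 3, 1, 2, 3, 1, 2, 3, 0, 2, 1, 3, 0, 3, 2, 1, 3, 0, 1, 0, 3, 1, 2, 0, 2, 1, 3, 1, 2, 0, 2, 1, 0, 3, 2, 1, 2, 3, 2, 3, 0, 2, 1, 0],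
    [0, 2, 1, 3, 1, 2, 0, 2, 1, 0, 3, 2, 1, 2, 3, 2, 3, 0, 2, 1, 0, 0, 2, 1, 3, 1, 2, 0, 2, 1, 0, 3, 2, 1, 2, 3, 2, 3, 0, 2, 1, 0, 3, 1, 2, 3, 0, 2, 1, 3, 0, 3, 2, 1, 3, 0, 1, 0, 3, 1, 2, 2, 0, 2, 1, 0, 2, 1, 2, 0, 1, 0, 3, 2, 0, 3, 0, 1, 0, 2, 1, 3, 1, 2, 0, 2, 1, 0, 3, 2, 1, 2, 3, 2, 3, 0, 2, 1, 0],
    [0, 2, 1, 3, 1, 2, 0, 2, 1, 0, 3, 2, 1, 2, 3, 2, 3, 0, 2, 1, 0, 2, 0, 2, 1, 0, 2, 1, 2, 0, 1, 0, 3, 2, 0, 3, 0, 1, 3, 1, 2, 3, 0, 2, 1, 3, 0, 3, 2, 1, 3, 0, 1, 0, 3, 1, 2, 0, 2, 1, 3, 1, 2, 0, 2, 1, 0, 3, 2, 1, 2, 3, 2, 3, 0, 2, 1, 0, 2, 0, 2, 1, 0, 2, 1, 2, 0, 1, 0, 3, 2, 0, 3, 0, 1, 3, 1, 2, 3, 0, 2, 1, 3, 0, 3, 2,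 1, 3, 0, 1, 0, 3, 1, 2, 2, 0, 2, 1, 0, 2, 1, 2, 0, 1, 0, 3, 2, 0, 3, 0, 1, 2, 0, 2, 1, 0, 2, 1, 2, 0, 1, 0, 3, 2, 0, 3, 0, 1, 2, 0, 2, 1, 0, 2, 1, 2, 0, 1, 0, 3, 2, 0, 3, 0, 1],
    [2, 0, 2, 1, 0, 2, 1, 2, 0, 1, 0, 3, 2, 0, 3, 0, 1, 2, 0, 2, 1, 0, 2, 1, 2, 0, 1, 0, 3, 2, 0, 3, 0, 1, 2, 0, 2, 1, 0, 2, 1, 2, 0, 1, 0, 3, 2, 0, 3, 0, 1, 0, 2, 1, 3, 1, 2, 0, 2, 1, 0, 3, 2, 1, 2, 3, 2, 3, 0, 2, 1, 0, 0, 2, 1, 3, 1, 2, 0, 2, 1, 0, 3, 2, 1, 2, 3, 2, 3, 0, 2, 1, 0, 3, 1, 2, 3, 0, 2, 1, 3, 0, 3, 2, 1, 3, 0, 1, 0, 3, 1, 2, 0, 2, 1, 3, 1, 2, 0, 2, 1, 0, 3, 2, 1, 2, 3, 2, 3, 0, 2, 1, 0, 2, 0, 2, 1, 0, 2, 1, 2, 0, 1, 0, 3, 2, 0,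 3, 0, 1, 0, 2, 1, 3, 1, 2, 0, 2, 1, 0, 3, 2, 1, 2, 3, 2, 3, 0, 2, 1, 0],
    [0, 2, 1, 3, 1, 2, 0, 2, 1, 0, 3, 2, 1, 2, 3, 2, 3, 0, 2, 1, 0, 3, 1, 2, 3, 0, 2, 1, 3, 0, 3, 2, 1, 3, 0, 1, 0, 3, 1, 2, 2, 0, 2, 1, 0, 2, 1, 2, 0, 1, 0, 3, 2, 0, 3, 0, 1]],
  [[],
    [2, 0, 2, 1, 0, 2, 1, 2, 0, 1, 0, 3, 2, 0, 3, 0, 1, 0, 2, 1, 3, 1, 2, 0, 2, 1, 0, 3, 2, 1, 2, 3, 2, 3, 0, 2, 1, 0, 2, 0, 2, 1, 0, 2, 1, 2, 0, 1, 0, 3, 2, 0, 3, 0, 1, 2, 0, 2, 1, 0, 2, 1, 2, 0, 1, 0, 3, 2, 0, 3, 0, 1],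
    [0, 2, 1, 3, 1, 2, 0, 2, 1, 0, 3, 2, 1, 2, 3, 2, 3, 0, 2, 1, 0, 2, 0, 2, 1, 0, 2, 1, 2, 0, 1, 0, 3, 2, 0, 3, 0, 1, 0, 2, 1, 3, 1, 2, 0, 2, 1, 0, 3, 2, 1, 2, 3, 2, 3, 0, 2, 1, 0, 3, 1, 2, 3, 0, 2, 1, 3, 0, 3, 2, 1, 3, 0, 1, 0, 3, 1, 2, 2, 0, 2, 1, 0, 2, 1, 2, 0, 1, 0, 3, 2, 0, 3, 0, 1, 3, 1, 2, 3, 0, 2, 1, 3, 0, 3, 2, 1, 3, 0, 1, 0, 3, 1, 2, 0, 2, 1, 3, 1, 2, 0, 2, 1, 0, 3, 2, 1, 2, 3, 2, 3, 0, 2, 1, 0, 0, 2, 1, 3, 1, 2, 0, 2, 1, 0, 3, 2, 1, 2, 3, 2, 3, 0, 2, 1, 0, 0, 2, 1, 3, 1, 2, 0, 2, 1, 0, 3, 2, 1, 2, 3, 2, 3, 0, 2, 1, 0],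
    [0, 2, 1, 3, 1, 2, 0, 2, 1, 0, 3, 2, 1, 2, 3, 2, 3, 0, 2, 1, 0, 0, 2, 1, 3, 1, 2, 0, 2, 1, 0, 3, 2, 1, 2, 3, 2, 3, 0, 2, 1, 0, 2, 0, 2, 1, 0, 2, 1, 2, 0, 1, 0, 3, 2, 0, 3, 0, 1, 0, 2, 1, 3, 1, 2, 0, 2, 1, 0, 3, 2, 1, 2, 3, 2, 3, 0, 2, 1, 0, 3, 1, 2, 3, 0, 2, 1, 3, 0, 3, 2, 1, 3, 0, 1, 0, 3, 1, 2, 2, 0, 2, 1, 0, 2, 1, 2, 0, 1, 0, 3, 2, 0, 3, 0, 1, 3, 1, 2, 3, 0, 2, 1, 3, 0, 3, 2, 1, 3, 0, 1, 0, 3, 1, 2, 0, 2, 1, 3, 1, 2, 0, 2, 1, 0, 3, 2, 1, 2, 3, 2, 3, 0, 2, 1, 0, 0, 2, 1, 3, 1, 2, 0, 2, 1, 0, 3, 2, 1, 2, 3, 2, 3, 0, 2, 1, 0],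
    [2, 0, 2, 1, 0, 2, 1, 2, 0, 1, 0, 3, 2, 0, 3, 0, 1, 0, 2, 1, 3, 1, 2, 0, 2, 1, 0, 3, 2, 1, 2, 3, 2, 3, 0, 2, 1, 0, 2, 0, 2, 1, 0, 2, 1, 2, 0, 1, 0, 3, 2, 0, 3, 0, 1, 2, 0, 2, 1, 0, 2, 1, 2, 0, 1, 0, 3, 2, 0, 3, 0, 1, 0, 2, 1, 3, 1, 2, 0, 2, 1, 0, 3, 2, 1, 2, 3, 2, 3, 0, 2, 1, 0, 3, 1, 2, 3, 0, 2, 1, 3, 0, 3, 2, 1, 3, 0, 1, 0, 3, 1, 2, 2, 0, 2, 1, 0, 2, 1, 2, 0, 1, 0, 3, 2, 0, 3, 0, 1],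
    [0, 2, 1, 3, 1, 2, 0, 2, 1, 0, 3, 2, 1, 2, 3, 2, 3, 0, 2, 1, 0, 3, 1, 2, 3, 0, 2, 1, 3, 0, 3, 2, 1, 3, 0, 1, 0, 3, 1, 2, 2, 0, 2, 1, 0, 2, 1, 2, 0, 1, 0, 3, 2, 0, 3, 0, 1, 2, 0, 2, 1, 0, 2, 1, 2, 0, 1, 0, 3, 2, 0, 3, 0, 1, 0, 2, 1, 3, 1, 2, 0, 2, 1, 0, 3, 2, 1, 2, 3, 2, 3, 0, 2, 1, 0, 2, 0, 2, 1, 0, 2, 1, 2, 0, 1, 0, 3, 2, 0, 3, 0, 1, 2, 0, 2, 1, 0, 2, 1, 2, 0, 1, 0, 3, 2, 0, 3, 0, 1],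
    [2, 0, 2, 1, 0, 2, 1, 2, 0, 1, 0, 3, 2, 0, 3, 0, 1, 2, 0, 2, 1, 0, 2, 1, 2, 0, 1, 0, 3, 2, 0, 3, 0, 1, 0, 2, 1, 3, 1, 2, 0, 2, 1, 0, 3, 2, 1, 2, 3, 2, 3, 0, 2, 1, 0, 2, 0, 2, 1, 0, 2, 1, 2, 0, 1, 0, 3, 2, 0, 3, 0, 1],
    [2, 0, 2, 1, 0, 2, 1, 2, 0, 1, 0, 3, 2, 0, 3, 0, 1, 2, 0, 2, 1, 0, 2, 1, 2, 0, 1, 0, 3, 2, 0, 3, 0, 1, 0, 2, 1, 3, 1, 2, 0, 2, 1, 0, 3, 2, 1, 2, 3, 2, 3, 0, 2, 1, 0, 2, 0, 2, 1, 0, 2, 1, 2, 0, 1, 0, 3, 2, 0, 3, 0, 1, 0, 2, 1, 3, 1, 2, 0, 2, 1, 0, 3, 2, 1, 2, 3, 2, 3, 0, 2, 1, 0, 3, 1, 2, 3, 0, 2, 1, 3, 0, 3, 2, 1, 3, 0, 1, 0, 3, 1, 2, 2, 0, 2, 1, 0, 2, 1, 2, 0, 1, 0, 3, 2, 0, 3, 0, 1],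
    [2, 0, 2, 1, 0, 2, 1, 2, 0, 1, 0, 3, 2, 0, 3, 0, 1, 0, 2, 1, 3, 1, 2, 0, 2, 1, 0, 3, 2, 1, 2, 3, 2, 3, 0, 2, 1, 0, 3, 1, 2, 3, 0, 2, 1, 3, 0, 3, 2, 1, 3, 0, 1, 0, 3, 1, 2, 2, 0, 2, 1, 0, 2, 1, 2, 0, 1, 0, 3, 2, 0, 3, 0, 1, 0, 2, 1, 3, 1, 2, 0, 2, 1, 0, 3, 2, 1, 2, 3, 2, 3, 0, 2, 1, 0, 2, 0, 2, 1, 0, 2, 1, 2, 0, 1, 0, 3, 2, 0, 3, 0, 1, 0, 2, 1, 3, 1, 2, 0, 2, 1, 0, 3, 2, 1, 2, 3, 2, 3, 0, 2, 1, 0, 3, 1, 2, 3, 0, 2, 1, 3, 0, 3, 2, 1, 3, 0, 1, 0, 3, 1, 2, 3, 1, 2, 3, 0, 2, 1, 3, 0, 3, 2, 1, 3, 0, 1, 0, 3, 1, 2]]]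

/-- Rows of four of the defining matrices. -/
def smRows : List (List (List F4)) := [[[.o, .z, .z, .z, .z, .z, .z, .z, .z], [.z, .o, .z, .z, .z, .z, .z, .z, .z], [.z, .z, .o, .z, .z, .z, .z, .z, .z], [.z, .z, .z, .w, .z, .z, .z, .z, .z], [.z, .z, .z, .z, .w, .z, .z, .z, .z], [.z, .z, .z, .z, .z, .w, .z, .z, .z], [.z, .z, .z, .z, .z, .z, .v, .z, .z], [.z, .z, .z, .z, .z, .z, .z, .v, .z], [.z, .z, .z, .z, .z, .z, .z, .z, .v]],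
  [[.o, .z, .z, .z, .z, .z, .z, .z, .z], [.z, .z, .z, .z, .z, .z, .z, .z, .o], [.z, .z, .z, .z, .o, .z, .z, .z, .z], [.z, .z, .z, .z, .z, .z, .z, .o, .z], [.z, .z, .z, .o, .z, .z, .z, .z, .z], [.z, .z, .o, .z, .z, .z, .z, .z, .z], [.z, .z, .z, .z, .z, .o, .z, .z, .z], [.z, .o, .z, .z, .z, .z, .z, .z, .z], [.z, .z, .z, .z, .z, .z, .o, .z, .z]],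
  [[.z, .z, .z, .z, .z, .z, .o, .z, .z], [.z, .z, .z, .z, .z, .z, .z, .o, .z], [.z, .z, .z, .z, .z, .z, .z, .z, .o], [.o, .z, .z, .z, .z, .z, .z, .z, .z], [.z, .o, .z, .z, .z, .z, .z, .z, .z], [.z, .z, .o, .z, .z, .z, .z, .z, .z], [.z, .z, .z, .o, .z, .z, .z, .z, .z], [.z, .z, .z, .z, .w, .z, .z, .z, .z], [.z, .z, .z, .z, .z, .v, .z, .z, .z]],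
  [[.o, .z, .z, .z, .z, .z, .z, .z, .z], [.z, .o, .z, .o, .z, .z, .o, .z, .z], [.z, .z, .o, .o, .z, .z, .o, .z, .z], [.z, .o, .o, .z, .z, .z, .o, .z, .z], [.z, .z, .z, .z, .o, .o, .z, .z, .o], [.z, .z, .z, .z, .o, .o, .z, .o, .z], [.z, .o, .o, .o, .z, .z, .z, .z, .z], [.z, .z, .z, .z, .z, .o, .z, .o, .o], [.z, .z, .z, .z, .o, .z, .z, .o, .o]]]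

/-- Their positions. -/
def smIx : List (Nat × Nat) := [(0, 3), (3, 4), (2, 3), (4, 3)]

/-- Words in them for the four involutions. -/
def backWords : List (List Nat) := [[1, 3, 2, 1, 0, 3, 1, 2, 2, 2, 2, 2, 2, 2, 2, 2, 3, 0, 0, 2, 2, 2, 2, 2, 2, 2, 2, 2, 2, 2, 2, 2, 2, 2, 2, 3, 0, 0, 0, 0, 3, 1, 1, 1, 1, 0, 3, 2, 2, 3, 2, 2, 2, 2, 2, 2, 2, 2, 2, 3, 0, 0, 1, 1, 1, 1, 1, 1, 1, 2, 2, 2, 2, 2, 2, 2, 2, 3, 0, 0, 0, 0, 2, 2, 3, 2, 3, 0, 0, 3, 2, 3, 1, 2, 2, 2, 2, 2, 2, 2, 2, 2, 1, 1, 1, 1, 1, 1, 1, 1, 1, 1, 1, 1, 1, 1, 3, 2, 2, 2, 2, 2, 2, 2, 2, 3, 0, 0, 2, 0, 3, 2, 2, 3, 2, 2, 1, 3, 2, 2, 2, 2, 2, 2, 2, 2, 2, 1, 1, 1,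 1, 1, 1, 1, 3, 0, 0, 3, 1, 1, 1, 1, 1, 1, 1, 2, 2, 2, 2, 2, 2, 2, 2, 3, 0, 2, 2, 3, 2, 2, 0, 3, 2, 2, 2, 2, 2, 2, 2, 2, 2, 3, 0, 0, 1, 1, 1, 1, 1, 1, 1, 2, 2, 2, 2, 2, 2, 2, 2, 3, 0, 0, 0, 0, 2, 2, 3, 2, 3, 0, 0, 3, 2, 3, 1, 2, 2, 2, 2, 2, 2, 2, 2, 2, 3, 0, 0, 1, 1, 1, 1, 1, 1, 1, 2, 2, 2, 2, 2, 2, 2, 2, 3, 0, 0, 0, 0, 2, 2, 3, 2, 3, 0, 0, 3, 2, 3, 1, 2, 2, 2, 2, 2, 2, 2, 2, 2, 1, 1, 1, 1, 1, 1, 1, 3, 0, 0, 3, 1, 1, 1, 1, 1, 1, 1, 2, 2, 2, 2, 2, 2, 2, 2, 3, 0, 2, 2, 3, 2, 2, 0, 3, 2, 2, 2, 2, 2, 2, 2, 2, 2, 3, 0, 0, 1, 1, 1, 1, 1, 1, 1, 2, 2, 2, 2, 2, 2, 2, 2, 3, 0, 0, 0, 0, 2, 2, 3, 2, 3, 0, 0, 3, 2, 3, 1, 2],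
  [0, 0, 1, 0, 3, 2, 0, 1, 3, 2, 2, 2, 2, 2, 2, 2, 2, 2, 2, 1, 1, 1, 1, 1, 1, 1, 1, 1, 1, 1, 1, 1, 1, 3, 2, 2, 2, 2, 2, 2, 2, 2, 3, 0, 0, 2, 0, 3, 2, 2, 3, 2, 2, 1, 3, 2, 2, 2, 2, 2, 2, 2, 2, 2, 1, 1, 1, 1, 1, 1, 1, 3, 0, 0, 3, 1, 1, 1, 1, 1, 1, 1, 2, 2, 2, 2, 2, 2, 2, 2, 3, 0, 2, 2, 3, 2, 2, 0, 3, 2, 2, 2, 2, 2, 2, 2, 2, 2, 1, 1, 1, 1, 1, 1, 1, 1, 1, 1, 1, 1, 1, 1, 3, 2, 2, 2, 2, 2, 2, 2, 2, 3, 0, 0, 2, 0, 3, 2, 2, 3, 2, 2, 1, 3, 2, 2, 2, 2, 2, 2, 2, 2, 2, 1, 1, 1, 1, 1, 1, 1, 3, 0, 0, 3, 1, 1, 1, 1, 1, 1, 1, 2, 2, 2, 2, 2, 2, 2, 2, 3, 0, 2, 2, 3, 2, 2, 0, 3, 2, 2, 2, 2, 2, 2, 2, 2, 2, 3, 0, 0, 1, 1, 1, 1, 1, 1, 1,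 2, 2, 2, 2, 2, 2, 2, 2, 3, 0, 0, 0, 0, 2, 2, 3, 2, 3, 0, 0, 3, 2, 3, 1, 2, 2, 2, 2, 2, 2, 2, 2, 2, 1, 1, 1, 1, 1, 1, 1, 1, 1, 1, 1, 1, 1, 1, 3, 2, 2, 2, 2, 2, 2, 2, 2, 3, 0, 0, 2, 0, 3, 2, 2, 3, 2, 2, 1, 3, 2, 2, 2, 2, 2, 2, 2, 2, 2, 3, 0, 0, 1, 1, 1, 1, 1, 1, 1, 2, 2, 2, 2, 2, 2, 2, 2, 3, 0, 0, 0, 0, 2, 2, 3, 2, 3, 0, 0, 3, 2, 3, 1, 2, 2, 2, 2, 2, 2, 2, 2, 2, 3, 0, 0, 1, 1, 1, 1, 1, 1, 1, 2, 2, 2, 2, 2, 2, 2, 2, 3, 0, 0, 0, 0, 2, 2, 3, 2, 3, 0, 0, 3, 2, 3, 1, 2],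
  [2, 2, 3, 2, 0, 3, 0, 1, 2, 3, 1, 1, 2, 2, 2, 2, 2, 2, 2, 2, 2, 3, 0, 0, 2, 2, 2, 2, 2, 2, 2, 2, 2, 2, 2, 2, 2, 2, 2, 2, 3, 0, 0, 0, 0, 3, 1, 1, 1, 1, 0, 3, 2, 2, 3, 2, 2, 2, 2, 2, 2, 2, 2, 2, 1, 1, 1, 1, 1, 1, 1, 1, 1, 1, 1, 1, 1, 1, 3, 2, 2, 2, 2, 2, 2, 2, 2, 3, 0, 0, 2, 0, 3, 2, 2, 3, 2, 2, 1, 3, 2, 2, 2, 2, 2, 2, 2, 2, 2, 1, 1, 1, 1, 1, 1, 1, 1, 1, 1, 1, 1, 1, 1, 3, 2, 2, 2, 2, 2, 2, 2, 2, 3, 0, 0, 2, 0, 3, 2, 2, 3, 2, 2, 1, 3, 2, 2, 2, 2, 2, 2, 2, 2, 2, 1, 1, 1, 1, 1, 1, 1, 1, 1, 1, 1, 1, 1, 1, 3, 2, 2, 2, 2, 2, 2, 2, 2, 3, 0, 0, 2, 0, 3, 2, 2, 3, 2, 2, 1, 3, 2, 2, 2, 2, 2, 2, 2, 2, 2, 1, 1, 1, 1, 1, 1, 1, 3,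 0, 0, 3, 1, 1, 1, 1, 1, 1, 1, 2, 2, 2, 2, 2, 2, 2, 2, 3, 0, 2, 2, 3, 2, 2, 0, 3, 2, 2, 2, 2, 2, 2, 2, 2, 2, 3, 0, 0, 1, 1, 1, 1, 1, 1, 1, 2, 2, 2, 2, 2, 2, 2, 2, 3, 0, 0, 0, 0, 2, 2, 3, 2, 3, 0, 0, 3, 2, 3, 1, 2, 2, 2, 2, 2, 2, 2, 2, 2, 1, 1, 1, 1, 1, 1, 1, 3, 0, 0, 3, 1, 1, 1, 1, 1, 1, 1, 2, 2, 2, 2, 2, 2, 2, 2, 3, 0, 2, 2, 3, 2, 2, 0, 3, 2, 2, 2, 2, 2, 2, 2, 2, 2, 1, 1, 1, 1, 1, 1, 1, 3, 0, 0, 3, 1, 1, 1, 1, 1, 1, 1, 2, 2, 2, 2, 2, 2, 2, 2, 3, 0, 2, 2, 3, 2, 2, 0, 3, 2, 2, 2, 2, 2, 2, 2, 2, 2, 3, 0, 0, 1, 1, 1, 1, 1, 1, 1, 2, 2, 2, 2, 2, 2, 2, 2, 3, 0, 0, 0, 0, 2, 2, 3, 2, 3, 0, 0, 3, 2, 3, 1, 2],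
  [2, 2, 2, 3, 2, 2, 0, 3, 1, 2, 2, 2, 2, 2, 2, 2, 2, 2, 1, 1, 1, 1, 1, 1, 1, 1, 1, 1, 1, 1, 1, 1, 3, 2, 2, 2, 2, 2, 2, 2, 2, 3, 0, 0, 2, 0, 3, 2, 2, 3, 2, 2, 1, 3, 2, 2, 2, 2, 2, 2, 2, 2, 2, 1, 1, 1, 1, 1, 1, 1, 1, 1, 1, 1, 1, 1, 1, 3, 2, 2, 2, 2, 2, 2, 2, 2, 3, 0, 0, 2, 0, 3, 2, 2, 3, 2, 2, 1, 3, 2, 2, 2, 2, 2, 2, 2, 2, 2, 3, 0, 0, 1, 1, 1, 1, 1, 1, 1, 2, 2, 2, 2, 2, 2, 2, 2, 3, 0, 0, 0, 0, 2, 2, 3, 2, 3, 0, 0, 3, 2, 3, 1, 2, 2, 2, 2, 2, 2, 2, 2, 2, 3, 0, 0, 1, 1, 1, 1, 1, 1, 1, 2, 2, 2, 2, 2, 2, 2, 2, 3, 0, 0, 0, 0, 2, 2, 3, 2, 3, 0, 0, 3, 2, 3, 1, 2, 2, 2, 2, 2, 2, 2, 2, 2, 1, 1, 1, 1, 1, 1, 1, 3, 0, 0, 3, 1, 1,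 1, 1, 1, 1, 1, 2, 2, 2, 2, 2, 2, 2, 2, 3, 0, 2, 2, 3, 2, 2, 0, 3, 2, 2, 2, 2, 2, 2, 2, 2, 2, 1, 1, 1, 1, 1, 1, 1, 3, 0, 0, 3, 1, 1, 1, 1, 1, 1, 1, 2, 2, 2, 2, 2, 2, 2, 2, 3, 0, 2, 2, 3, 2, 2, 0, 3, 2, 2, 2, 2, 2, 2, 2, 2, 2, 1, 1, 1, 1, 1, 1, 1, 3, 0, 0, 3, 1, 1, 1, 1, 1, 1, 1, 2, 2, 2, 2, 2, 2, 2, 2, 3, 0, 2, 2, 3, 2, 2, 0, 3, 2, 2, 2, 2, 2, 2, 2, 2, 2, 3, 0, 0, 1, 1, 1, 1, 1, 1, 1, 2, 2, 2, 2, 2, 2, 2, 2, 3, 0, 0, 0, 0, 2, 2, 3, 2, 3, 0, 0, 3, 2, 3, 1, 2, 2, 2, 2, 2, 2, 2, 2, 2, 1, 1, 1, 1, 1, 1, 1, 3, 0, 0, 3, 1, 1, 1, 1, 1, 1, 1, 2, 2, 2, 2, 2, 2, 2, 2, 3, 0, 2, 2, 3, 2, 2, 0, 3, 2]]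

end CfsgLib.J3Local
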