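import Cfsg.Agent.Coset.J3.Unitary
import Cfsg.Agent.J3Local.BridgeData
import Cfsg.Prelude.Def_Spor_J3

/-! `Cfsg.Spor.J3 F ω` is the presented simple group of order 50232960. -/

set_option autoImplicit false
set_option maxRecDepth 100000

namespace CfsgLib.J3Local

open Matrix Cfsg.Spor CfsgLib.Coset CfsgLib.Coset.G24 CfsgLib.Coset.J3

/-- The standard order of the index set. -/
def eIx : Fin 9 ≃ F9 where
  toFun i := (((i.val / 3 : ℕ) : ZMod 3), ((i.val % 3 : ℕ) : ZMod 3))
  invFun z := ⟨3 * z.1.val + z.2.val, by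
    have := ZMod.val_lt z.1
    have := ZMod.val_lt z.2
    omega⟩
  left_inv := by decide
  right_inv := by decide

/-- A defining matrix by kind. -/
def kindMat (K : Type*) [Field K] [DecidableEq K] (a : K) : Fin 5 → F9 → Matrix F9 F9 K
  | 0 => j3A K a
  | 1 => j3E K a
  | 2 => j3D K a
  | 3 => j3B K
  | 4 => j3C K

/-- The word of a defining matrix. -/
def gW (k : Fin 5) (i : Fin 9) : List Nat := (genWords.getD k.val []).getD i.val []

/-- The word and matrix agree. -/
noncomputable def genChk (k : Fin 5) (i : Fin 9) : Bool :=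
  ((gW k i).all fun l => decide (l < 4)) &&
  checkCols uRows (gW k i) 9
    (rowsOf (Equiv.refl (Fin 9)) ((kindMat F4 .w k (eIx i)).submatrix eIx eIx))

theorem gen_ok : ∀ k : Fin 5, ∀ i : Fin 9, (k.val < 3 ∨ i.val ≠ 0) → genChk k i = true := by
  decide +kernel

theorem ev_gW {k : Fin 5} {i : Fin 9} (h : k.val < 3 ∨ i.val ≠ 0) :
    (toGL (ev Lh (gW k i))).val = (kindMat F4 .w k (eIx i)).submatrix eIx eIx := by
  have h' := gen_ok k i h
  rw [genChk, Bool.and_eq_true] at h'
  exact ev_val h'.1 _ h'.2

/-- The four matrices used backwards. -/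
noncomputable def Ls : List (GL (Fin 9) F4) :=
  smIx.map fun p => toGL (ev Lh (gW (Fin.ofNat 5 p.1) (Fin.ofNat 9 p.2)))

theorem sm_ok : ∀ l : Fin 4, (((Fin.ofNat 5 (smIx.getD l.val (0, 0)).1).val < 3 ∨
      (Fin.ofNat 9 (smIx.getD l.val (0, 0)).2).val ≠ 0) ∧
    rowsOf (Equiv.refl (Fin 9)) ((kindMat F4 .w (Fin.ofNat 5 (smIx.getD l.val (0, 0)).1)
      (eIx (Fin.ofNat 9 (smIx.getD l.val (0, 0)).2))).submatrix eIx eIx) = smRows.getD l.val []) := by
  decide +kernel

theorem back_ok : ((List.range 4).all fun l =>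
    ((backWords.getD l []).all fun x => decide (x < 4)) &&
    checkCols smRows (backWords.getD l []) 9 (uRows.getD l [])) = true := by decide +kernel

theorem back_eq (l : Fin 4) : ev Ls (backWords.getD l.val []) = toGL (fl Lh l.val) := by
  have h := List.all_eq_true.mp back_ok l.val (List.mem_range.mpr l.isLt)
  rw [Bool.and_eq_true, ← uMat_rows l] at h
  have hlen : Ls.length = 4 := by rw [Ls, List.length_map]; rfl
  apply Units.ext
  rw [ev_eq_of_checkCols (L := Ls) (Equiv.refl (Fin 9)) (mats := smRows) ?_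
    (fun x hx => by rw [hlen]; simpa using List.all_eq_true.mp h.1 x hx) (uMat l) h.2]
  · fin_cases l <;> rfl
  · intro x hx
    have hx4 : x < 4 := hlen ▸ hx
    obtain ⟨h1, h2⟩ := sm_ok ⟨x, hx4⟩
    have hi : x < smIx.length := hx4
    rw [← h2, fl, List.getD_eq_getElem _ _ hx]
    simp only [Ls, List.getElem_map, List.getD_eq_getElem _ _ hi] at h1 ⊢
    rw [ev_gW h1]

variable {F : Type*} [Field F]

section

variable (hF : Nat.card F = 4) {ω : F} (hω : ω ^ 2 + ω + 1 = 0)

include hF in
theorem two_eq_zero : (1 : F) + 1 = 0 := by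
  have : Finite F := Nat.finite_of_card_ne_zero (by omega)
  have := Fintype.ofFinite F
  obtain ⟨p, hp⟩ := CharP.exists F
  obtain ⟨n, hpp, hc⟩ := FiniteField.card F p
  rw [← Nat.card_eq_fintype_card, hF] at hc
  have hp2 : p = 2 := by
    have : p ∣ 2 ^ 2 := ⟨p ^ ((n : ℕ) - 1), by
      rw [← pow_succ', Nat.sub_add_cancel n.pos, ← hc]; norm_num⟩
    exact (Nat.prime_dvd_prime_iff_eq hpp Nat.prime_two).mp (hpp.dvd_of_dvd_pow this)
  subst hp2
  exact_mod_cast CharP.cast_eq_zero F 2

/-- The underlying map of the embedding of the model field. -/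
def iotaFun (ω : F) : F4 → F
  | .z => 0
  | .o => 1
  | .w => ω
  | .v => ω ^ 2

include hω hF

theorem omega_cube : ω ^ 3 = 1 := by
  linear_combination (ω - 1) * hω

/-- The embedding of the model field. -/
def iota : F4 →+* F where
  toFun := iotaFun ω
  map_one' := rfl
  map_zero' := rfl
  map_mul' := by
    have h3 := omega_cube hF hω
    rintro ⟨⟩ ⟨⟩ <;>
      first
        | (show iotaFun ω .z = _; simp [iotaFun])
        | (show iotaFun ω .o = _; simp only [iotaFun]; linear_combination (-1 : F) * h3)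
        | (show iotaFun ω .w = _; simp only [iotaFun]; linear_combination (-ω) * h3)
        | (show iotaFun ω .o = _; simp [iotaFun])
        | (show iotaFun ω .w = _; simp [iotaFun])
        | (show iotaFun ω .v = _; simp [iotaFun, sq])
  map_add' := by
    have h2 := two_eq_zero hF
    rintro ⟨⟩ ⟨⟩ <;>
      first
        | (show iotaFun ω .z = _; simp only [iotaFun]; linear_combination (0 : F) * h2)
        | (show iotaFun ω .z = _; simp only [iotaFun]; linear_combination (-1 : F) * h2)
        | (show iotaFun ω .z = _; simp only [iotaFun]; linear_combination (-ω) * h2)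
        | (show iotaFun ω .z = _; simp only [iotaFun]; linear_combination (-(ω ^ 2)) * h2)
        | (show iotaFun ω .o = _; simp only [iotaFun]; linear_combination (0 : F) * h2)
        | (show iotaFun ω .w = _; simp only [iotaFun]; linear_combination (0 : F) * h2)
        | (show iotaFun ω .v = _; simp only [iotaFun]; linear_combination (0 : F) * h2)
        | (show iotaFun ω .o = _; simp only [iotaFun]; linear_combination (-1 : F) * hω + h2)
        | (show iotaFun ω .w = _; simp only [iotaFun]; linear_combination (-1 : F) * hω + ω * h2)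
        | (show iotaFun ω .v = _; simp only [iotaFun]; linear_combination hω - (1 + ω) * h2)

theorem iota_w : iota hF hω .w = ω := rfl

theorem iota_omegaPow (n : ZMod 3) : iota hF hω (omegaPow F4 .w n) = omegaPow F ω n := by
  rw [omegaPow, map_pow, iota_w]; rfl

theorem map_kindMat (k : Fin 5) (Z : F9) :
    (kindMat F4 .w k Z).map (iota hF hω) =
      (match k with
        | 0 => j3A F ω Z | 1 => j3E F ω Z | 2 => j3D F ω Z | 3 => j3B F Z | 4 => j3C F Z) := by
  fin_cases k
  · show (j3A F4 .w Z).map _ = j3A F ω Z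
    rw [j3A, j3A, Matrix.diagonal_map (map_zero _)]
    exact congrArg Matrix.diagonal (funext fun z => iota_omegaPow hF hω _)
  · show (j3E F4 .w Z).map _ = j3E F ω Z
    rw [j3E, j3E, Matrix.diagonal_map (map_zero _)]
    exact congrArg Matrix.diagonal (funext fun z => iota_omegaPow hF hω _)
  · show (j3D F4 .w Z).map _ = j3D F ω Z
    ext w z
    simp only [j3D, j3Lam, Matrix.map_apply, Matrix.of_apply]
    split_ifs <;> simp [iota_w]
  · show (j3B F4 Z).map _ = j3B F Z
    ext w z
    simp only [j3B, Matrix.map_apply, Matrix.of_apply]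
    split_ifs <;> simp
  · show (j3C F4 Z).map _ = j3C F Z
    ext w z
    simp only [j3C, Matrix.map_apply, Matrix.of_apply]
    split_ifs <;> simp

/-- The triple cover inside the group of invertible matrices over `F`. -/
noncomputable def phi : H3 →* GL F9 F :=
  ((Units.mapEquiv (Matrix.reindexAlgEquiv ℕ F eIx).toMulEquiv).toMonoidHom.comp
    (Matrix.GeneralLinearGroup.map (iota hF hω))).comp toGL

theorem phi_val (h : H3) :
    (phi hF hω h).val = ((toGL h).val.map (iota hF hω)).submatrix eIx.symm eIx.symm := rfl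

theorem phi_injective : Function.Injective (phi hF hω) := by
  intro a b h
  apply toGL_injective
  apply Units.ext
  ext i j
  have h' := congrArg (fun g : GL F9 F => g.val (eIx i) (eIx j)) h
  simp only [phi_val, Matrix.submatrix_apply, Matrix.map_apply, Equiv.symm_apply_apply] at h'
  exact (iota hF hω).injective h'

theorem phi_gW {k : Fin 5} {i : Fin 9} (h : k.val < 3 ∨ i.val ≠ 0) :
    (phi hF hω (ev Lh (gW k i))).val = (kindMat F4 .w k (eIx i)).map (iota hF hω) := by
  rw [phi_val, ev_gW h]
  ext a b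
  simp

theorem gW_mem {k : Fin 5} {i : Fin 9} (h : k.val < 3 ∨ i.val ≠ 0) :
    phi hF hω (ev Lh (gW k i)) ∈ threeJ3 F ω := by
  refine Subgroup.subset_closure ?_
  show (phi hF hω _).val ∈ j3Gens F ω
  rw [phi_gW hF hω h, map_kindMat]
  have hz : k.val < 3 ∨ eIx i ≠ 0 := h.imp_right fun hi h0 => hi (by
    have := congrArg eIx.symm h0
    rw [Equiv.symm_apply_apply] at this
    rw [this]; rfl)
  fin_cases k
  · exact Or.inl (Or.inl (Or.inl (Or.inl ⟨_, rfl⟩)))
  · exact Or.inl (Or.inl (Or.inl (Or.inr ⟨_, rfl⟩)))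
  · exact Or.inl (Or.inl (Or.inr ⟨_, rfl⟩))
  · exact Or.inl (Or.inr ⟨_, hz.resolve_left (by simp), rfl⟩)
  · exact Or.inr ⟨_, hz.resolve_left (by simp), rfl⟩

theorem range_phi : (phi hF hω).range = threeJ3 F ω := by
  refine le_antisymm ?_ ?_
  · rw [MonoidHom.range_eq_map, ← closure_Lh, MonoidHom.map_closure, Subgroup.closure_le]
    rintro _ ⟨x, hx, rfl⟩
    obtain ⟨l, hl, rfl⟩ := List.getElem_of_mem hx
    have hl4 : l < 4 := hl
    have hm : toGL (fl Lh l) ∈ Subgroup.closure {g | g ∈ Ls} := by
      rw [← back_eq ⟨l, hl4⟩]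
      have hall : ∀ w : List Nat, ev Ls w ∈ Subgroup.closure {g | g ∈ Ls} := by
        intro w
        induction w with
        | nil => simp
        | cons a w ih =>
          rw [ev_cons]
          refine mul_mem ?_ ih
          rw [fl]
          rcases lt_or_ge a Ls.length with ha | ha
          · rw [List.getD_eq_getElem _ _ ha]; exact Subgroup.subset_closure (List.getElem_mem ha)
          · rw [List.getD_eq_default _ _ ha]; exact one_mem _
      exact hall _
    rw [fl, List.getD_eq_getElem _ _ hl] at hm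
    let ψ : GL (Fin 9) F4 →* GL F9 F :=
      (Units.mapEquiv (Matrix.reindexAlgEquiv ℕ F eIx).toMulEquiv).toMonoidHom.comp
        (Matrix.GeneralLinearGroup.map (iota hF hω))
    show ψ (toGL _) ∈ threeJ3 F ω
    refine ((Subgroup.closure_le ((threeJ3 F ω).comap ψ)).mpr ?_) hm
    intro g hg
    obtain ⟨p, hp, rfl⟩ := List.mem_map.mp hg
    obtain ⟨n, hn, rfl⟩ := List.getElem_of_mem hp
    have h1 := (sm_ok ⟨n, hn⟩).1
    rw [List.getD_eq_getElem _ _ hn] at h1
    exact gW_mem hF hω h1
  · refine (Subgroup.closure_le _).mpr fun g hg => ?_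
    have key : ∀ (k : Fin 5) (Z : F9), (k.val < 3 ∨ Z ≠ 0) →
        g.val = (kindMat F4 .w k Z).map (iota hF hω) → g ∈ (phi hF hω).range := by
      intro k Z hz he
      have h : k.val < 3 ∨ (eIx.symm Z).val ≠ 0 := hz.imp_right fun h0 h1 => h0 (by
        have h2 : eIx.symm Z = 0 := Fin.ext h1
        rw [← eIx.apply_symm_apply Z, h2]; decide)
      refine ⟨ev Lh (gW k (eIx.symm Z)), Units.ext ?_⟩
      rw [phi_gW hF hω h, he, eIx.apply_symm_apply]
    rcases hg with (((⟨Z, h⟩ | ⟨Z, h⟩) | ⟨Z, h⟩) | ⟨Z, hz, h⟩) | ⟨Z, hz, h⟩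
    · exact key 0 Z (Or.inl (by norm_num)) (by rw [map_kindMat, ← h])
    · exact key 1 Z (Or.inl (by norm_num)) (by rw [map_kindMat, ← h])
    · exact key 2 Z (Or.inl (by norm_num)) (by rw [map_kindMat, ← h])
    · exact key 3 Z (Or.inr hz) (by rw [map_kindMat, h])
    · exact key 4 Z (Or.inr hz) (by rw [map_kindMat, h])

/-- The triple cover. -/
noncomputable def coverEquiv : H3 ≃* threeJ3 F ω :=
  (MonoidHom.ofInjective (phi_injective hF hω)).trans (MulEquiv.subgroupCongr (range_phi hF hω))

theorem map_center : (Subgroup.center H3).map (coverEquiv hF hω : H3 →* threeJ3 F ω) =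
    Subgroup.center (threeJ3 F ω) := by
  ext x
  rw [Subgroup.mem_map, Subgroup.mem_center_iff]
  constructor
  · rintro ⟨c, hc, rfl⟩ y
    obtain ⟨a, rfl⟩ := (coverEquiv hF hω).surjective y
    show coverEquiv hF hω a * coverEquiv hF hω c = coverEquiv hF hω c * coverEquiv hF hω a
    rw [← map_mul, ← map_mul, Subgroup.mem_center_iff.mp hc a]
  · intro hx
    refine ⟨(coverEquiv hF hω).symm x, Subgroup.mem_center_iff.mpr fun a => ?_,
      (coverEquiv hF hω).apply_symm_apply x⟩
    apply (coverEquiv hF hω).injective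
    rw [map_mul, map_mul, MulEquiv.apply_symm_apply]
    exact hx _

/-- The Janko group is the presented group. -/
theorem nonempty_equiv_P : Nonempty (J3.P ≃* Cfsg.Spor.J3 F ω) := by
  obtain ⟨e⟩ := J3.nonempty_equiv (Subgroup.center H3) S3_le_center center_ne_top
  exact ⟨e.trans (QuotientGroup.congr _ _ (coverEquiv hF hω) (map_center hF hω))⟩

end

end CfsgLib.J3Local
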