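import Cfsg.Agent.J3Local.Class
import Cfsg.Agent.J3Local.CentData
import Cfsg.Agent.J3Local.TH
import Cfsg.Agent.Coset.Presented
import Cfsg.Agent.Monster.ExtraBasics
import Mathlib.GroupTheory.SpecificGroups.Alternating
import Mathlib.GroupTheory.Sylow
import Mathlib.GroupTheory.Complement

/-! The centraliser of an involution: an extraspecial group of order 32 extended by `A₅`. -/

set_option autoImplicit false
set_option maxRecDepth 100000

namespace CfsgLib.J3Local

open CfsgLib.Coset CfsgLib.Coset.J3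

/-- Substitute words for letters. -/
def wsub (ws : List (List Nat)) (w : List Nat) : List Nat := (w.map fun l => ws.getD l []).flatten

theorem ev_map {G : Type*} [Group G] (L : List G) (ws : List (List Nat)) :
    ∀ w, ev (ws.map (ev L)) w = ev L (wsub ws w)
  | [] => by simp [wsub]
  | l :: w => by
    rw [ev_cons, ev_map L ws w, wsub, wsub, List.map_cons, List.flatten_cons, ev_append]
    congr 1
    rw [fl, ← ev_nil L, List.getD_map]

theorem ev_mem_closure {G : Type*} [Group G] (L : List G) (w : List Nat) :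
    ev L w ∈ Subgroup.closure {x | x ∈ L} := by
  induction w with
  | nil => simp
  | cons l w ih =>
    rw [ev_cons]
    refine mul_mem ?_ ih
    rw [fl]
    rcases lt_or_ge l L.length with hl | hl
    · rw [List.getD_eq_getElem _ _ hl]; exact Subgroup.subset_closure (List.getElem_mem hl)
    · rw [List.getD_eq_default _ _ hl]; exact one_mem _

/-- Generators of the centraliser. -/
noncomputable def LC : List P := cGens.map (ev Lp)

/-- The generated subgroup. -/
noncomputable def S : Subgroup P := Subgroup.closure {x | x ∈ LC}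

theorem gens_C : (cGens.all fun w => sameW (w ++ [0]) (0 :: w)) = true := by decide +kernel

theorem S_le_C : S ≤ C := by
  refine (Subgroup.closure_le _).mpr fun x hx => ?_
  obtain ⟨w, hw, rfl⟩ := List.mem_map.mp hx
  exact mem_C_word (List.all_eq_true.mp gens_C w hw)

/-- A block. -/
def blk (k : Fin 5) : List Nat := blocks.getD k.val []

/-- The images of the blocks. -/
def Maps (g : P) (p : Equiv.Perm (Fin 5)) : Prop :=
  ∀ k : Fin 5, ∀ i : Fin 6156, i.val ∈ blk k → (ρ g i).val ∈ blk (p k)

theorem maps_one : Maps 1 1 := fun _ _ h => by simpa using h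

theorem Maps.mul {g h : P} {p q : Equiv.Perm (Fin 5)} (hg : Maps g p) (hh : Maps h q) :
    Maps (g * h) (p * q) := fun k i hi => by
  rw [map_mul, Equiv.Perm.mul_apply, Equiv.Perm.mul_apply]; exact hg _ _ (hh k i hi)

theorem blk_disjoint : ∀ j k : Fin 5, ∀ a, a ∈ blk j → a ∈ blk k → j = k := by
  have h : ∀ j k : Fin 5, (blk j).all (fun a => decide (a ∈ blk k → j = k)) = true := by
    decide +kernel
  intro j k a ha hb
  exact of_decide_eq_true (List.all_eq_true.mp (h j k) a ha) hb

theorem blk_pts : ∀ k : Fin 5, (blk k).all (fun a => decide (a < 6156)) &&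
    !(blk k).isEmpty = true := by decide +kernel

theorem Maps.unique {g : P} {p q : Equiv.Perm (Fin 5)} (hp : Maps g p) (hq : Maps g q) : p = q :=
  Equiv.ext fun k => by
    have h := blk_pts k
    simp only [Bool.and_eq_true, List.all_eq_true, Bool.not_eq_true', decide_eq_true_eq] at h
    obtain ⟨a, ha⟩ := List.exists_mem_of_ne_nil _ (by simpa using h.2)
    exact blk_disjoint _ _ _ (hp k ⟨a, h.1 a ha⟩ ha) (hq k ⟨a, h.1 a ha⟩ ha)

/-- The block of a point. -/
def blkOf (a : Nat) : Fin 5 := ((List.finRange 5).find? fun k => (blk k).contains a).getD 0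

/-- The block map of a word. -/
noncomputable def wordMap (w : List Nat) (k : Fin 5) : Fin 5 :=
  blkOf (run ((blk k).getD 0 0) w.reverse)

/-- A word permutes the blocks. -/
noncomputable def wordMaps (w : List Nat) : Bool :=
  checkLetters 4 [w] && decide (Function.Injective (wordMap w)) &&
  decide (∀ k : Fin 5, ∀ a ∈ blk k, run a w.reverse ∈ blk (wordMap w k))

theorem maps_word {w : List Nat} (h : wordMaps w = true) :
    ∃ p : Equiv.Perm (Fin 5), (∀ k, p k = wordMap w k) ∧ Maps (ev Lp w) p := by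
  simp only [wordMaps, Bool.and_eq_true, decide_eq_true_eq] at h
  obtain ⟨⟨hl, hi⟩, hm⟩ := h
  refine ⟨Equiv.ofBijective _ ⟨hi, Finite.surjective_of_injective hi⟩, fun k => rfl, ?_⟩
  intro k i hk
  have e : (ρ (ev Lp w) i).val = run i.val w.reverse := by
    rw [run_eq, ← matches_ρ.follow_eq w.reverse i (fun l hl' => by
      rw [len_Lp]; exact letters_lt hl w (by simp) l (List.mem_reverse.mp hl')),
      ev_reverse, map_inv, inv_inv]
  rw [e]
  exact hm k i.val hk

theorem gens_maps : (cGens.all wordMaps) = true := by decide +kernel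

theorem gens_even : ∀ p : Equiv.Perm (Fin 5), ∀ l : Fin 4,
    (∀ k, p k = wordMap (cGens.getD l.val []) k) → Equiv.Perm.sign p = 1 := by decide +kernel

theorem exists_maps {g : P} (hg : g ∈ S) : ∃ p, Maps g p ∧ Equiv.Perm.sign p = 1 := by
  have := finite_P
  have h : g ∈ Submonoid.closure {x | x ∈ LC} := by
    rw [← Subgroup.closure_toSubmonoid_of_finite]; exact hg
  clear hg
  induction h using Submonoid.closure_induction with
  | mem x hx =>
    obtain ⟨w, hw, rfl⟩ := List.mem_map.mp hx
    obtain ⟨l, hl, rfl⟩ := List.getElem_of_mem hw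
    obtain ⟨p, hpk, hp⟩ := maps_word (List.all_eq_true.mp gens_maps _ (List.getElem_mem hl))
    have hl4 : l < 4 := (show cGens.length = 4 by decide +kernel) ▸ hl
    exact ⟨p, hp, gens_even p ⟨l, hl4⟩ fun k => by rw [hpk, List.getD_eq_getElem _ _ hl]⟩
  | one => exact ⟨1, maps_one, by simp⟩
  | mul a b _ _ iha ihb =>
    obtain ⟨p, hp, hs⟩ := iha
    obtain ⟨q, hq, hs'⟩ := ihb
    exact ⟨p * q, hp.mul hq, by rw [map_mul, hs, hs', mul_one]⟩

/-- The action on five blocks. -/
noncomputable def η₀ : S →* alternatingGroup (Fin 5) :=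
  MonoidHom.mk' (fun g => ⟨(exists_maps g.2).choose,
      Equiv.Perm.mem_alternatingGroup.mpr (exists_maps g.2).choose_spec.2⟩) fun a b =>
    Subtype.ext ((exists_maps (a * b).2).choose_spec.1.unique
      ((exists_maps a.2).choose_spec.1.mul (exists_maps b.2).choose_spec.1))

theorem η₀_eq {g : S} {p : Equiv.Perm (Fin 5)} (h : Maps g.1 p) : (η₀ g).1 = p :=
  (exists_maps g.2).choose_spec.1.unique h

/-- An element of the generated subgroup given by letters for the generators. -/
noncomputable def sElt (u : List Nat) : S := ⟨ev LC u, ev_mem_closure _ _⟩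

theorem sElt_val (u : List Nat) : (sElt u).1 = ev Lp (wsub cGens u) := ev_map Lp cGens u

theorem sElt_append (u v : List Nat) : sElt (u ++ v) = sElt u * sElt v :=
  Subtype.ext (ev_append _ _ _)

/-- The listed element of the kernel. -/
noncomputable def qElt₀ (a : Fin 32) : S := sElt (qIdx.getD a.val [])

/-- The word of a listed element of the kernel. -/
def qW (a : Nat) : List Nat := wsub cGens (qIdx.getD a [])

/-- The word of a complement generator. -/
def hW : List (List Nat) := hGens.map (wsub cGens)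

/-- The complement generators. -/
noncomputable def Lh3 : List S := hGens.map sElt

/-- The complement. -/
noncomputable def H₀ : Subgroup S := Subgroup.closure {x | x ∈ Lh3}

theorem Lh3_val (w : List Nat) : (ev Lh3 w).1 = ev Lp (wsub hW w) := by
  have e : ∀ w, (ev Lh3 w).1 = ev (hW.map (ev Lp)) w := by
    intro w
    induction w with
    | nil => simp
    | cons l w ih =>
      rw [ev_cons, ev_cons, Subgroup.coe_mul, ih]
      congr 1
      rw [fl, fl, Lh3, hW, List.map_map]
      rcases lt_or_ge l hGens.length with hl | hl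
      · rw [List.getD_eq_getElem _ _ (by simpa using hl), List.getD_eq_getElem _ _ (by simpa using hl)]
        simp [sElt_val]
      · rw [List.getD_eq_default _ _ (by simpa using hl), List.getD_eq_default _ _ (by simpa using hl)]
        rfl
  rw [e, ev_map]

theorem hrels_ok : (TH.hrels.all fun w => sameW (wsub hW w) []) = true := by decide +kernel

theorem card_H₀_le : Nat.card H₀ ≤ 60 := by
  have hl : Lh3.length = 3 := by simp [Lh3, show hGens.length = 3 by decide +kernel]
  have hr : ∀ w ∈ TH.hrels, ev Lh3 w = 1 := fun w hw => Subtype.ext (by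
    rw [Lh3_val, sameW_eq (List.all_eq_true.mp hrels_ok w hw), ev_nil]; rfl)
  have h2 : ∀ x, fl Lh3 x * fl Lh3 x = 1 := by
    intro x
    rcases lt_or_ge x 3 with hx | hx
    · have h := hr [x, x] (by interval_cases x <;> decide)
      simpa using h
    · rw [fl_of_le _ (by omega), mul_one]
  have hsub : ∀ w ∈ TH.subs, ev Lh3 w ∈ (⊥ : Subgroup S) := by
    intro w hw; simp [TH.subs] at hw
  have ht : TableOK Lh3 (⊥ : Subgroup S) TH.E id 60 TH.Rep TH.Tb :=
    tableOK_of_check (fun x => by rw [id, inv_eq_of_mul_eq_one_right (h2 x)]) TH.hR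
      (hl.symm ▸ TH.hdefs) (hl.symm ▸ TH.hsteps) (hl.symm ▸ TH.htable) hr hsub
  have := finite_P
  exact (ht.finite_card_le (m := 1) (by decide) bot_le inferInstance (by simp)).2

theorem q_maps : ∀ a : Fin 32, wordMaps (qW a.val) = true ∧
    ∀ k : Fin 5, wordMap (qW a.val) k = k := by decide +kernel

theorem qElt₀_val (a : Fin 32) : (qElt₀ a).1 = ev Lp (qW a.val) := sElt_val _

theorem qElt₀_ker (a : Fin 32) : η₀ (qElt₀ a) = 1 := by
  obtain ⟨h, hk⟩ := q_maps a
  obtain ⟨p, hpk, hp⟩ := maps_word h
  refine Subtype.ext ?_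
  rw [η₀_eq (p := p) (by rw [qElt₀_val]; exact hp)]
  exact Equiv.ext fun k => (hpk k).trans (hk k)

theorem q_distinct : ((List.finRange 32).map fun a =>
    (base.map Fin.val).map fun b => run b (qW a.val)).Nodup := by decide +kernel

theorem qW_letters : ∀ a : Fin 32, checkLetters 4 [qW a.val] = true := by decide +kernel

theorem qElt₀_injective : Function.Injective qElt₀ := by
  intro a b e
  have e' : ev Lp (qW a.val) = ev Lp (qW b.val) := by
    rw [← qElt₀_val, ← qElt₀_val, e]
  refine List.inj_on_of_nodup_map q_distinct (List.mem_finRange a) (List.mem_finRange b) ?_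
  refine List.map_congr_left fun x hx => ?_
  have h := sameW_of_eq (qW_letters a) (qW_letters b) e'
  simp only [sameW, Bool.and_eq_true] at h
  exact Nat.eq_of_beq_eq_true (allList_iff.mp h.2 x hx)

/-- The listed element of the complement. -/
noncomputable def hElt₀ (b : Fin 60) : S := ev Lh3 (hReps.getD b.val [])

theorem h_maps : ∀ b : Fin 60, wordMaps (wsub hW (hReps.getD b.val [])) = true := by decide +kernel

theorem h_distinct : ((List.finRange 60).map fun b =>
    (List.finRange 5).map (wordMap (wsub hW (hReps.getD b.val [])))).Nodup := by decide +kernel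

theorem η_hElt_injective : Function.Injective fun b => η₀ (hElt₀ b) := by
  intro a b e
  have key : ∀ b, ∀ k, (η₀ (hElt₀ b)).1 k = wordMap (wsub hW (hReps.getD b.val [])) k := by
    intro b k
    obtain ⟨p, hpk, hp⟩ := maps_word (h_maps b)
    rw [η₀_eq (p := p) (by rw [hElt₀, Lh3_val]; exact hp), hpk]
  refine List.inj_on_of_nodup_map h_distinct (List.mem_finRange a) (List.mem_finRange b) ?_
  exact List.map_congr_left fun k _ => by rw [← key a k, ← key b k]; exact congrArg (fun g => g.1 k) e

theorem card_A5 : Nat.card (alternatingGroup (Fin 5)) = 60 := by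
  rw [Nat.card_eq_fintype_card]; decide

theorem η₀_surjective : Function.Surjective η₀ := by
  intro g
  have hb : Function.Bijective fun b => η₀ (hElt₀ b) :=
    (Nat.bijective_iff_injective_and_card _).mpr ⟨η_hElt_injective, by rw [card_A5, Nat.card_fin]⟩
  obtain ⟨b, hb⟩ := hb.2 g
  exact ⟨_, hb⟩

theorem card_S_ge : 1920 ≤ Nat.card S := by
  have := finite_P
  have h := Subgroup.card_eq_card_quotient_mul_card_subgroup η₀.ker
  rw [Nat.card_congr (QuotientGroup.quotientKerEquivOfSurjective η₀ η₀_surjective).toEquiv,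
    card_A5] at h
  have hk : 32 ≤ Nat.card η₀.ker := by
    have := Nat.card_le_card_of_injective (fun a => (⟨qElt₀ a, qElt₀_ker a⟩ : η₀.ker))
      (fun a b e => qElt₀_injective (congrArg Subtype.val e))
    simpa using this
  omega

theorem S_eq_C : S = C := by
  have := finite_P
  exact Subgroup.eq_of_le_of_card_ge S_le_C (card_C_le.trans card_S_ge)

theorem card_C : Nat.card C = 1920 :=
  le_antisymm card_C_le (S_eq_C ▸ card_S_ge)

/-- The normal subgroup of order 32. -/
noncomputable def Q : Subgroup S := η₀.ker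

theorem card_Q : Nat.card Q = 32 := by
  have := finite_P
  have h := Subgroup.card_eq_card_quotient_mul_card_subgroup η₀.ker
  rw [Nat.card_congr (QuotientGroup.quotientKerEquivOfSurjective η₀ η₀_surjective).toEquiv,
    card_A5, show Nat.card S = 1920 by rw [S_eq_C, card_C]] at h
  show Nat.card η₀.ker = 32
  omega

/-- The listed element of `Q`. -/
noncomputable def qElt (a : Fin 32) : Q := ⟨qElt₀ a, qElt₀_ker a⟩

theorem qElt_bijective : Function.Bijective qElt := by
  have := finite_P
  exact (Nat.bijective_iff_injective_and_card qElt).mpr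
    ⟨fun a b e => qElt₀_injective (congrArg Subtype.val e), by rw [card_Q, Nat.card_fin]⟩

theorem q_table : ∀ a b : Fin 32, (sameW (qW a.val ++ qW b.val)
      (qW ((qMul.getD a.val []).getD b.val 0)) &&
    Nat.blt ((qMul.getD a.val []).getD b.val 0) 32) = true := by decide +kernel

/-- The multiplication table. -/
def qm (a b : Fin 32) : Fin 32 :=
  ⟨(qMul.getD a.val []).getD b.val 0, Nat.le_of_ble_eq_true (by
    have h := q_table a b; rw [Bool.and_eq_true] at h; exact h.2)⟩

theorem qElt_mul (a b : Fin 32) : qElt a * qElt b = qElt (qm a b) := by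
  have h := q_table a b
  rw [Bool.and_eq_true] at h
  refine Subtype.ext (Subtype.ext ?_)
  show (qElt₀ a).1 * (qElt₀ b).1 = (qElt₀ (qm a b)).1
  rw [qElt₀_val, qElt₀_val, qElt₀_val, ← ev_append]
  exact sameW_eq h.1

theorem q_facts : (∀ a b : Fin 32, (qm a b = qm b a ∨ (qm (qm b a) 1 = qm a b))) ∧
    (∀ a : Fin 32, qm a a = 0 ∨ qm a a = 1) ∧
    (∀ a : Fin 32, (∀ b : Fin 32, qm a b = qm b a) ↔ (a = 0 ∨ a = 1)) ∧
    (∀ a : Fin 32, qm a 0 = a ∧ qm 0 a = a) := by decide +kernel

theorem qElt_zero : qElt 0 = 1 := by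
  have h := qElt_mul 0 0
  rw [(q_facts.2.2.2 0).1] at h
  exact mul_eq_left.mp h

theorem center_Q : ∀ a : Fin 32, qElt a ∈ Subgroup.center Q ↔ (a = 0 ∨ a = 1) := by
  intro a
  rw [← q_facts.2.2.1 a, Subgroup.mem_center_iff]
  constructor
  · intro h b
    refine qElt_bijective.1 ?_
    rw [← qElt_mul, ← qElt_mul, h]
  · intro h g
    obtain ⟨b, rfl⟩ := qElt_bijective.2 g
    rw [qElt_mul, qElt_mul, h]

theorem extra : Cfsg.IsExtraspecial 2 Q := by
  have := finite_P
  refine CfsgLib.Monster.isExtraspecial_of (IsPGroup.of_card (n := 5) (by rw [card_Q]; rfl)) ?_ ?_ ?_ ?_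
  · have hs : ((Subgroup.center Q : Subgroup Q) : Set Q) = {qElt 0, qElt 1} := by
      ext g
      obtain ⟨a, rfl⟩ := qElt_bijective.2 g
      rw [SetLike.mem_coe, center_Q, Set.mem_insert_iff, Set.mem_singleton_iff,
        qElt_bijective.1.eq_iff, qElt_bijective.1.eq_iff]
    have := congrArg Set.ncard hs
    rw [Set.ncard_pair (fun h => absurd (qElt_bijective.1 h) (by decide))] at this
    exact (Nat.card_coe_set_eq _).trans this
  · intro x y
    obtain ⟨a, rfl⟩ := qElt_bijective.2 x
    obtain ⟨b, rfl⟩ := qElt_bijective.2 y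
    have key : qElt a * qElt b * (qElt a)⁻¹ * (qElt b)⁻¹ =
        qElt a * qElt b * (qElt b * qElt a)⁻¹ := by group
    have hone := (center_Q 1).mpr (Or.inr rfl)
    rw [key, qElt_mul, qElt_mul]
    rcases q_facts.1 a b with h | h
    · rw [h, mul_inv_cancel]; exact one_mem _
    · rw [← h, ← qElt_mul, Subgroup.mem_center_iff.mp hone (qElt (qm b a)), mul_inv_cancel_right]
      exact hone
  · intro x
    obtain ⟨a, rfl⟩ := qElt_bijective.2 x
    rw [qElt_mul, center_Q]
    exact q_facts.2.1 a
  · obtain ⟨b, hb⟩ : ∃ b, qm 2 b ≠ qm b 2 := by decide +kernel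
    exact ⟨qElt 2, qElt b, fun h => hb (qElt_bijective.1 (by rwa [← qElt_mul, ← qElt_mul]))⟩

/-- The non-trivial involutions of the table. -/
def qInv : List (Fin 32) := (List.finRange 32).filter fun a => decide (qm a a = 0) && !decide (a = 0)

theorem no_eight : (qInv.all fun a => qInv.all fun b => qInv.all fun c =>
    decide (a = b) || decide (c = a) || decide (c = b) || decide (c = qm a b) ||
    !decide (qm a b = qm b a) || !decide (qm a c = qm c a) || !decide (qm b c = qm c b)) = true := by
  decide +kernel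

theorem elementary_le (E : Subgroup Q) (hE : Cfsg.IsElementaryAbelian 2 E) :
    Nat.card E ≤ 2 ^ 2 := by
  by_contra hlt
  have := finite_P
  have hE2 : ∀ x ∈ E, x * x = 1 := fun x hx => by
    rw [← pow_two]; exact hE.2 x hx
  have hEc : ∀ x ∈ E, ∀ y ∈ E, x * y = y * x := fun x hx y hy =>
    congrArg Subtype.val (hE.1.is_comm.comm ⟨x, hx⟩ ⟨y, hy⟩)
  have pick : ∀ l : List Q, l.length ≤ 4 → ∃ x ∈ E, x ∉ l := by
    intro l hl
    by_contra hc
    push Not at hc
    refine hlt ?_
    have h := Set.ncard_le_ncard (show (E : Set Q) ⊆ {x | x ∈ l} from hc)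
      (l.finite_toSet)
    rw [← Nat.card_coe_set_eq] at h
    refine h.trans (le_trans ?_ (hl.trans (by norm_num)))
    classical
    rw [show {x | x ∈ l} = (l.toFinset : Set Q) by simp, Set.ncard_coe_finset]
    exact l.toFinset_card_le
  have idx : ∀ x ∈ E, x ≠ 1 → ∃ a ∈ qInv, qElt a = x := by
    intro x hx hne
    obtain ⟨a, rfl⟩ := qElt_bijective.2 x
    refine ⟨a, List.mem_filter.mpr ⟨List.mem_finRange a, ?_⟩, rfl⟩
    have h2 := hE2 _ hx
    rw [qElt_mul, ← qElt_zero] at h2
    have h0 : a ≠ 0 := fun h => hne (h ▸ qElt_zero)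
    simp [qElt_bijective.1 h2, h0]
  obtain ⟨x, hx, hx1⟩ := pick [1] (by simp)
  obtain ⟨y, hy, hy1⟩ := pick [1, x] (by simp)
  obtain ⟨z, hz, hz1⟩ := pick [1, x, y, x * y] (by simp)
  simp only [List.mem_cons, List.not_mem_nil, or_false, not_or] at hx1 hy1 hz1
  obtain ⟨a, ha, rfl⟩ := idx x hx hx1
  obtain ⟨b, hb, rfl⟩ := idx y hy hy1.1
  obtain ⟨c, hc, rfl⟩ := idx z hz hz1.1
  have h := List.all_eq_true.mp (List.all_eq_true.mp (List.all_eq_true.mp no_eight a ha) b hb) c hc
  simp only [Bool.or_eq_true, Bool.not_eq_true', decide_eq_true_eq, decide_eq_false_iff_not] at h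
  rw [qElt_mul] at hz1
  rcases h with (((((h | h) | h) | h) | h) | h) | h
  · exact hy1.2 (h ▸ rfl)
  · exact hz1.2.1 (h ▸ rfl)
  · exact hz1.2.2.1 (h ▸ rfl)
  · exact hz1.2.2.2 (h ▸ rfl)
  · exact h (qElt_bijective.1 (by rw [← qElt_mul, ← qElt_mul]; exact hEc _ hx _ hy))
  · exact h (qElt_bijective.1 (by rw [← qElt_mul, ← qElt_mul]; exact hEc _ hx _ hz))
  · exact h (qElt_bijective.1 (by rw [← qElt_mul, ← qElt_mul]; exact hEc _ hy _ hz))

theorem hElt₀_mem (b : Fin 60) : hElt₀ b ∈ H₀ := ev_mem_closure _ _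

theorem hElt₀_bijective : Function.Bijective fun b => (⟨hElt₀ b, hElt₀_mem b⟩ : H₀) := by
  have := finite_P
  refine (Nat.bijective_iff_injective_and_card _).mpr ⟨fun a b e => η_hElt_injective (congrArg (fun h : H₀ => η₀ h.1) e), ?_⟩
  · have hi : Function.Injective fun b => (⟨hElt₀ b, hElt₀_mem b⟩ : H₀) := fun a b e =>
      η_hElt_injective (congrArg (fun h : H₀ => η₀ h.1) e)
    have h := Nat.card_le_card_of_injective _ hi
    rw [Nat.card_fin] at h ⊢
    have := card_H₀_le
    omega

theorem complement : Q.IsComplement' H₀ := by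
  have := finite_P
  have hH : Nat.card H₀ = 60 := by
    rw [← Nat.card_eq_of_bijective _ hElt₀_bijective, Nat.card_fin]
  refine Subgroup.isComplement'_of_card_mul_and_disjoint ?_ ?_
  · rw [card_Q, hH, S_eq_C, card_C]
  · rw [Subgroup.disjoint_def]
    intro x hq hh
    obtain ⟨b, hb⟩ := hElt₀_bijective.2 ⟨x, hh⟩
    obtain ⟨b0, hb0⟩ := hElt₀_bijective.2 ⟨1, one_mem _⟩
    have e : η₀ (hElt₀ b) = η₀ (hElt₀ b0) := by
      have e1 : hElt₀ b = x := congrArg Subtype.val hb
      have e2 : hElt₀ b0 = 1 := congrArg Subtype.val hb0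
      rw [e1, e2, map_one]; exact hq
    have := η_hElt_injective e
    subst this
    exact (congrArg Subtype.val hb).symm.trans (congrArg Subtype.val hb0)

/-- A product of a kernel and a complement word is trivial, no involution, or a listed conjugate. -/
noncomputable def invOK (a b : Nat) : Bool :=
  sameW (qW a ++ wsub hW (hReps.getD b [])) [] ||
  !sameW ((qW a ++ wsub hW (hReps.getD b [])) ++ (qW a ++ wsub hW (hReps.getD b []))) [] ||
  invCert.any fun c => Nat.beq c.1 a && Nat.beq c.2.1 b && Nat.blt c.2.2 26163 &&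
    sameW (qW a ++ wsub hW (hReps.getD b [])) (xw c.2.2)

/-- The check for a row. -/
noncomputable def invRow (a : Nat) : Bool := (List.range 60).all (invOK a)

theorem inv_check : ((List.range 32).all invRow) = true := by decide +kernel

theorem t_sq : t * t = 1 := sq_all 0

theorem t_ne : t ≠ 1 := by
  intro h
  have h1 := sameW_of_eq (v := [0]) (w := []) (by decide +kernel) (by decide +kernel)
    (by simpa [t] using h)
  exact absurd h1 (by decide +kernel)

theorem orderOf_t : orderOf t = 2 := orderOf_eq_prime (by rw [pow_two]; exact t_sq) t_ne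

theorem h_letters : ∀ b : Fin 60, checkLetters 4 [wsub hW (hReps.getD b.val [])] = true := by
  decide +kernel

theorem isConj_of_mem_C {x : P} (hx : orderOf x = 2) (hC : x ∈ C) : IsConj t x := by
  have := finite_P
  rw [← S_eq_C] at hC
  obtain ⟨⟨⟨q, hq⟩, ⟨h, hh⟩⟩, hqh⟩ := complement.2 ⟨x, hC⟩
  change q * h = (⟨x, hC⟩ : S) at hqh
  obtain ⟨a, ha⟩ := qElt_bijective.2 ⟨q, hq⟩
  obtain ⟨b, hb⟩ := hElt₀_bijective.2 ⟨h, hh⟩
  have e : ev Lp (qW a.val ++ wsub hW (hReps.getD b.val [])) = x := by
    rw [ev_append, ← qElt₀_val, ← Lh3_val]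
    rw [show (qElt₀ a) = q from congrArg Subtype.val ha,
      show ev Lh3 (hReps.getD b.val []) = h from congrArg Subtype.val hb]
    exact congrArg Subtype.val hqh
  have hl := letters_append (qW_letters a) (h_letters b)
  have hr := List.all_eq_true.mp inv_check a.val (List.mem_range.mpr a.isLt)
  rw [invRow] at hr
  have hc := List.all_eq_true.mp hr
    b.val (List.mem_range.mpr b.isLt)
  simp only [invOK, Bool.or_eq_true, Bool.not_eq_true'] at hc
  rcases hc with (hc | hc) | hc
  · exfalso
    have e' := sameW_eq hc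
    rw [e, ev_nil] at e'
    rw [e', orderOf_one] at hx
    omega
  · exfalso
    rw [sameW_of_eq (w := []) (letters_append hl hl) (by decide +kernel)
      (by rw [ev_append, e, ev_nil, ← pow_two, ← hx, pow_orderOf_eq_one])] at hc
    exact Bool.noConfusion hc
  · obtain ⟨c, -, hc⟩ := List.any_eq_true.mp hc
    simp only [Bool.and_eq_true] at hc
    have e' := sameW_eq hc.2
    rw [e, show c.2.2 = (⟨c.2.2, Nat.le_of_ble_eq_true hc.1.2⟩ : Fin 26163).val from rfl, ev_xw] at e'
    exact isConj_iff.mpr ⟨_, e'.symm⟩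

theorem isConj_involution {x : P} (hx : orderOf x = 2) : IsConj t x := by
  have := finite_P
  have : Fact (Nat.Prime 2) := ⟨Nat.prime_two⟩
  have hp : ∀ y : P, orderOf y = 2 → ∃ U : Sylow 2 P, y ∈ (U : Subgroup P) := by
    intro y hy
    obtain ⟨U, hU⟩ := (IsPGroup.of_card (p := 2) (n := 1) (show Nat.card (Subgroup.zpowers y) = 2 ^ 1 by
      rw [Nat.card_zpowers, hy, pow_one])).exists_le_sylow
    exact ⟨U, hU (Subgroup.mem_zpowers y)⟩
  obtain ⟨V, hV⟩ := hp t orderOf_t
  obtain ⟨U, hU⟩ := hp x hx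
  have : Nontrivial (V : Subgroup P) := ⟨⟨t, hV⟩, 1, fun e => t_ne (congrArg Subtype.val e)⟩
  have := V.isPGroup'.center_nontrivial
  have h2 : 2 ∣ Nat.card (Subgroup.center (V : Subgroup P)) := by
    obtain ⟨n, hn⟩ := IsPGroup.iff_card.mp (V.isPGroup'.to_subgroup (Subgroup.center (V : Subgroup P)))
    rw [hn]
    refine dvd_pow_self 2 fun h0 => ?_
    rw [h0, pow_zero] at hn
    have h1 : 1 < Nat.card (Subgroup.center (V : Subgroup P)) := Finite.one_lt_card
    omega
  obtain ⟨c, hc⟩ := exists_prime_orderOf_dvd_card' (G := Subgroup.center (V : Subgroup P)) 2 h2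
  set z : (V : Subgroup P) := (c : (V : Subgroup P)) with hz
  have hzo : orderOf z.1 = 2 := by rw [Subgroup.orderOf_coe, hz, Subgroup.orderOf_coe, hc]
  have hzc : ∀ y ∈ (V : Subgroup P), z.1 * y = y * z.1 := fun y hy =>
    congrArg Subtype.val (Subgroup.mem_center_iff.mp c.2 ⟨y, hy⟩).symm
  have hzC : z.1 ∈ C := mem_C.mpr (hzc t hV)
  obtain ⟨g, hg⟩ := isConj_iff.mp (isConj_of_mem_C hzo hzC)
  obtain ⟨h, hh⟩ := MulAction.exists_smul_eq P U V
  have hx' : h * x * h⁻¹ ∈ (V : Subgroup P) := by
    rw [← hh, Sylow.coe_subgroup_smul]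
    exact Subgroup.mem_pointwise_smul_iff_inv_smul_mem.mpr (by
      simpa [mul_assoc] using hU)
  have hk : g⁻¹ * (h * x * h⁻¹) * g ∈ C := by
    rw [mem_C]
    have e := hzc _ hx'
    rw [← hg] at e
    calc g⁻¹ * (h * x * h⁻¹) * g * t = g⁻¹ * ((h * x * h⁻¹) * (g * t * g⁻¹)) * g := by group
      _ = g⁻¹ * ((g * t * g⁻¹) * (h * x * h⁻¹)) * g := by rw [e]
      _ = t * (g⁻¹ * (h * x * h⁻¹) * g) := by group
  have hc2 : IsConj x (g⁻¹ * (h * x * h⁻¹) * g) := isConj_iff.mpr ⟨g⁻¹ * h, by group⟩
  refine (isConj_of_mem_C ?_ hk).trans hc2.symm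
  rw [show g⁻¹ * (h * x * h⁻¹) * g = MulAut.conj (g⁻¹ * h) x by simp [MulAut.conj_apply, mul_assoc],
    MulEquiv.orderOf_eq, hx]

/-- The centraliser is the generated subgroup. -/
noncomputable def eS : S ≃* C := MulEquiv.subgroupCongr S_eq_C

/-- The quotient. -/
noncomputable def quotQ : S ⧸ η₀.ker ≃* alternatingGroup (Fin 5) :=
  QuotientGroup.quotientKerEquivOfSurjective η₀ η₀_surjective

end CfsgLib.J3Local
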