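import Cfsg.Agent.J3Local.ClassChk

/-! Part of the check that the involutions are distinct. -/

set_option autoImplicit false
set_option maxRecDepth 100000
set_option Elab.async false

namespace CfsgLib.J3Local

open CfsgLib.Coset

theorem step4 : belowBlock 11 26163 stepOK 4 = true := by decide +kernel
theorem step5 : belowBlock 11 26163 stepOK 5 = true := by decide +kernel
theorem step6 : belowBlock 11 26163 stepOK 6 = true := by decide +kernel
theorem step7 : belowBlock 11 26163 stepOK 7 = true := by decide +kernel

end CfsgLib.J3Local
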