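import Cfsg.Agent.Coset.J3.Order
import Cfsg.Agent.J3Local.ClassStep0
import Cfsg.Agent.J3Local.ClassStep1
import Cfsg.Agent.J3Local.ClassStep2
import Cfsg.Agent.J3Local.ClassStep3

/-! The conjugates of a generating involution. -/

set_option autoImplicit false
set_option maxRecDepth 100000

namespace CfsgLib.J3Local

open CfsgLib.Coset CfsgLib.Coset.J3

theorem finite_P : Finite P := card_le.1

theorem card_P : Nat.card P = 50232960 := card_and_injective.1

/-- A base. -/
def base : List (Fin 6156) := [0, 70, 1]

theorem base_bot : baseStab ρ base = ⊥ := by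
  have := finite_P
  refine baseStab_eq_bot (N := 50232960) (by norm_num) card_le.2 base ?_
  have h3 : Nat.card (baseStab ρ base) ≤ Nat.card (baseStab ρ [(0 : Fin 6156), 70, 1]) := le_rfl
  have h2 := orbit_step matches_ρ (base := [(0 : Fin 6156), 70]) (β := 1) (m := 4) (dm := 2)
    (gens := Orb.B2G) (P := Orb.B2P) (Inv := Orb.B2Inv)
    (by decide +kernel) (by decide +kernel) (by decide +kernel) h3
  have h1 := orbit_step matches_ρ (base := [(0 : Fin 6156)]) (β := 70) (m := 2040) (dm := 11)
    (gens := Orb.B1G) (P := Orb.B1P) (Inv := Orb.B1Inv)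
    (by decide +kernel) (by decide +kernel) (by decide +kernel) h2
  have h0 := orbit_step matches_ρ (base := []) (β := 0) (m := 6156) (dm := 13)
    (gens := Orb.B0G) (P := Orb.B0P) (Inv := Orb.B0Inv)
    (by decide +kernel) (by decide +kernel) (by decide +kernel) h1
  have e : Nat.card (baseStab ρ ([] : List (Fin 6156))) = Nat.card P := by simp [baseStab]
  rw [e] at h0
  simpa [← mul_assoc] using h0

/-- Two words give the same element. -/
noncomputable def sameW (v w : List Nat) : Bool :=
  checkLetters 4 [v] && checkLetters 4 [w] &&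
  allList (fun b => Nat.beq (run b v) (run b w)) (base.map Fin.val)

theorem sameW_eq {v w : List Nat} (h : sameW v w = true) : ev Lp v = ev Lp w := by
  simp only [sameW, run_eq, Bool.and_eq_true] at h
  exact matches_ρ.ev_eq_of_base base_bot (by rw [len_Lp]; exact h.1.1)
    (by rw [len_Lp]; exact h.1.2) h.2

theorem sameW_of_eq {v w : List Nat} (hv : checkLetters 4 [v] = true)
    (hw : checkLetters 4 [w] = true) (h : ev Lp v = ev Lp w) : sameW v w = true := by
  simp only [sameW, run_eq, Bool.and_eq_true]
  refine ⟨⟨hv, hw⟩, allList_iff.mpr fun b hb => ?_⟩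
  obtain ⟨i, -, rfl⟩ := List.mem_map.mp hb
  rw [← matches_ρ.follow_eq v i (by rw [len_Lp]; exact letters_lt hv v (by simp)),
    ← matches_ρ.follow_eq w i (by rw [len_Lp]; exact letters_lt hw w (by simp)), h]
  exact Nat.beq_refl _

theorem letters_append {v w : List Nat} (hv : checkLetters 4 [v] = true)
    (hw : checkLetters 4 [w] = true) : checkLetters 4 [v ++ w] = true := by
  simp only [checkLetters, allList_iff, List.mem_singleton, forall_eq] at hv hw ⊢
  intro y hy
  rcases List.mem_append.mp hy with hy | hy
  · exact hv y hy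
  · exact hw y hy

theorem ev_reverse (w : List Nat) : ev Lp w.reverse = (ev Lp w)⁻¹ := by
  induction w with
  | nil => simp
  | cons l w ih =>
    simp only [List.reverse_cons, ev_append, ih, ev_cons, ev_nil, mul_one, mul_inv_rev,
      inv_eq_of_mul_eq_one_right (sq_all l)]

/-- The involution. -/
noncomputable def t : P := fl Lp 0

theorem t_eq : t = ev Lp [0] := by simp [t]

/-- Its centraliser. -/
noncomputable def C : Subgroup P := Subgroup.centralizer {t}

theorem mem_C {g : P} : g ∈ C ↔ g * t = t * g := by
  rw [C, Subgroup.mem_centralizer_singleton_iff]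

theorem mem_C_word {w : List Nat} (h : sameW (w ++ [0]) (0 :: w) = true) : ev Lp w ∈ C := by
  rw [mem_C]
  simpa [ev_append, t] using sameW_eq h

theorem step_all : allBelow 15 26163 stepOK = true :=
  allBelow_of_blocks (d := 11) (j := 4) (by decide +kernel) fun b hb => by
    have : b < 16 := hb
    interval_cases b
    · exact step0
    · exact step1
    · exact step2
    · exact step3
    · exact step4
    · exact step5
    · exact step6
    · exact step7
    · exact step8
    · exact step9
    · exact step10
    · exact step11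
    · exact step12
    · exact step13
    · exact step14
    · exact step15

theorem step_spec (k : Nat) (hk : k < 26163) : ord k < 26163 ∧ checkLetters 4 [xw (ord k)] = true ∧
    (k = 26162 ∨ keyW (xw (ord k)) < keyW (xw (ord (k + 1)))) := by
  have h := of_allBelow step_all k hk
  simp only [stepOK, Bool.and_eq_true, Bool.or_eq_true] at h
  exact ⟨Nat.le_of_ble_eq_true h.1.1, h.1.2,
    h.2.imp Nat.eq_of_beq_eq_true Nat.le_of_ble_eq_true⟩

/-- A conjugator. -/
noncomputable def T (i : Fin 26163) : P := ev Lp (tw 13 i.val)

/-- A conjugate. -/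
noncomputable def X (i : Fin 26163) : P := T i * t * (T i)⁻¹

theorem ev_xw (i : Fin 26163) : ev Lp (xw i.val) = X i := by
  rw [xw, X, T, ev_append, ev_append, ev_reverse, t_eq]

/-- The sorting order on `Fin`. -/
noncomputable def ordF (k : Fin 26163) : Fin 26163 := ⟨ord k, (step_spec k k.isLt).1⟩

theorem key_lt {j k : Fin 26163} (h : j < k) :
    keyW (xw (ord j.val)) < keyW (xw (ord k.val)) := by
  have main : ∀ d a, a + d + 1 < 26163 → keyW (xw (ord a)) < keyW (xw (ord (a + d + 1))) := by
    intro d
    induction d with
    | zero => intro a ha; exact (step_spec a (by omega)).2.2.resolve_left (by omega)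
    | succ d ih =>
      intro a ha
      exact (ih a (by omega)).trans ((step_spec (a + d + 1) (by omega)).2.2.resolve_left (by omega))
  have h' : j.val < k.val := h
  have := main (k.val - j.val - 1) j.val (by omega)
  rwa [show j.val + (k.val - j.val - 1) + 1 = k.val by omega] at this

theorem keyW_eq_of {v w : List Nat} (h : sameW v w = true) : keyW v = keyW w := by
  simp only [sameW, Bool.and_eq_true, base, List.map_cons, List.map_nil] at h
  have h' := allList_iff.mp h.2
  have a := Nat.eq_of_beq_eq_true (h' 0 (by simp))
  have b := Nat.eq_of_beq_eq_true (h' 70 (by decide))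
  have c := Nat.eq_of_beq_eq_true (h' 1 (by decide))
  simp only [keyW, forceN_eq, a, b, c]

theorem X_ord_injective : Function.Injective fun k => X (ordF k) := by
  intro j k e
  by_contra hne
  have e' : ev Lp (xw (ord j.val)) = ev Lp (xw (ord k.val)) := by
    rw [show ord j.val = (ordF j).val from rfl, show ord k.val = (ordF k).val from rfl, ev_xw, ev_xw]
    exact e
  have hk := keyW_eq_of (sameW_of_eq (step_spec j j.isLt).2.1 (step_spec k k.isLt).2.1 e')
  rcases lt_or_gt_of_ne hne with h | h
  · exact absurd hk (key_lt h).ne
  · exact absurd hk (key_lt h).ne'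

theorem ordF_surjective : Function.Surjective ordF :=
  Finite.surjective_of_injective fun _ _ e => X_ord_injective (congrArg X e)

theorem X_injective : Function.Injective X := by
  intro a b e
  obtain ⟨j, rfl⟩ := ordF_surjective a
  obtain ⟨k, rfl⟩ := ordF_surjective b
  exact congrArg ordF (X_ord_injective e)

theorem xw_letters (i : Fin 26163) : checkLetters 4 [xw i.val] = true := by
  obtain ⟨k, rfl⟩ := ordF_surjective i
  exact (step_spec k k.isLt).2.1

theorem conj_eq (i : Fin 26163) (c : C) : T i * c.1 * t * (T i * c.1)⁻¹ = X i := by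
  have h := mem_C.mp c.2
  calc T i * c.1 * t * (T i * c.1)⁻¹ = T i * (c.1 * t) * c.1⁻¹ * (T i)⁻¹ := by group
    _ = T i * (t * c.1) * c.1⁻¹ * (T i)⁻¹ := by rw [h]
    _ = X i := by rw [X]; group

theorem conj_injective : Function.Injective fun p : Fin 26163 × C => T p.1 * p.2.1 := by
  rintro ⟨i, c⟩ ⟨j, d⟩ e
  change T i * c.1 = T j * d.1 at e
  have hij : i = j := X_injective (by rw [← conj_eq i c, ← conj_eq j d, e])
  subst hij
  exact Prod.ext rfl (Subtype.ext (mul_left_cancel e))

theorem card_C_le : Nat.card C ≤ 1920 := by
  have := finite_P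
  have h := Nat.card_le_card_of_injective _ conj_injective
  rw [Nat.card_prod, Nat.card_fin, card_P] at h
  omega

/-- The class is exhausted once the centraliser has order at least 1920. -/
theorem exists_X (hC : 1920 ≤ Nat.card C) (g : P) : ∃ i, g * t * g⁻¹ = X i := by
  have := finite_P
  have hb : Function.Bijective fun p : Fin 26163 × C => T p.1 * p.2.1 :=
    (Nat.bijective_iff_injective_and_card _).mpr ⟨conj_injective, by
      rw [Nat.card_prod, Nat.card_fin, card_P]
      have := card_C_le
      omega⟩
  obtain ⟨⟨i, c⟩, hc⟩ := hb.2 g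
  refine ⟨i, ?_⟩
  change T i * c.1 = g at hc
  rw [← hc, conj_eq]

end CfsgLib.J3Local
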