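import Cfsg.Agent.Coset.Table
import Cfsg.Agent.Coset.Orbit
import Cfsg.Agent.Coset.Blocks
import Cfsg.Agent.Coset.J3.TopData
import Cfsg.Agent.J3Local.ClassData

/-! Words for the involutions, and the check that they are distinct. -/

set_option autoImplicit false
set_option maxRecDepth 100000

namespace CfsgLib.J3Local

open CfsgLib.Coset

/-- Evaluate a number first. -/
noncomputable def forceN {α : Type} (n : Nat) (f : Nat → α) : α :=
  Nat.rec (motive := fun _ => α) (f 0) (fun p _ => f (Nat.succ p)) n

theorem forceN_eq {α : Type} (n : Nat) (f : Nat → α) : forceN n f = f n := by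
  cases n <;> rfl

/-- `follow` in the table, evaluating as it goes. -/
noncomputable def run (i : Nat) (w : List Nat) : Nat :=
  List.rec (motive := fun _ => Nat → Nat) (fun i => i)
    (fun l _ ih i => forceN i fun i => forceN l fun l => forceN (tget J3.Top.Tb i l) ih) w i

theorem run_eq : ∀ (w : List Nat) (i : Nat), run i w = follow (tget J3.Top.Tb) i w := by
  intro w
  induction w with
  | nil => intro i; rfl
  | cons l w ih =>
    intro i
    show (forceN i fun i => forceN l fun l => forceN (tget J3.Top.Tb i l) fun j => run j w) = _
    rw [forceN_eq, forceN_eq, forceN_eq, ih, follow_cons]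

/-- A word carrying the involution to a conjugate. -/
noncomputable def tw : Nat → Nat → List Nat
  | 0, _ => []
  | n + 1, i => forceN i fun i => cond (Nat.beq i 0) []
      (forceN (field (Tree i) 1) fun l => l :: tw n (field (Tree i) 0))

/-- The word of a conjugate. -/
noncomputable def xw (i : Nat) : List Nat := tw 13 i ++ [0] ++ (tw 13 i).reverse

/-- The code of an element given by a word. -/
noncomputable def keyW (w : List Nat) : Nat :=
  forceN (run 0 w) fun a => forceN (run 70 w) fun b => forceN (run 1 w) fun c =>
    Nat.add (Nat.mul (Nat.add (Nat.mul a 8192) b) 8192) c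

/-- The sorting order. -/
noncomputable def ord (i : Nat) : Nat := Nat.land (Ord i) 16777215

/-- One step of the check. -/
noncomputable def stepOK (k : Nat) : Bool :=
  Nat.blt (ord k) 26163 && checkLetters 4 [xw (ord k)] &&
    (Nat.beq k 26162 || Nat.blt (keyW (xw (ord k))) (keyW (xw (ord (Nat.add k 1)))))

end CfsgLib.J3Local
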