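import Cfsg.Agent.J3Local.Glue
import Cfsg.Agent.HJT.FusionSimpleEquiv

/-! The 2-fusion system of the third Janko group is simple. -/

set_option autoImplicit false
set_option maxRecDepth 100000
set_option linter.style.haveILetI false

namespace CfsgLib.J3Local

open CfsgLib.Coset CfsgLib.Coset.J3

theorem mem_S {x : P} : x ∈ S ↔ x * t = t * x := by rw [S_eq_C, mem_C]

/-- The action on the five blocks, as permutations. -/
noncomputable def ηp : S →* Equiv.Perm (Fin 5) := (alternatingGroup (Fin 5)).subtype.comp η₀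

theorem ηp_one {x : S} : ηp x = 1 ↔ η₀ x = 1 := by
  show (alternatingGroup (Fin 5)).subtype (η₀ x) = 1 ↔ _
  exact map_eq_one_iff _ Subtype.coe_injective

theorem qElt_one_val : ((qElt 1 : Q) : S).1 = t := by
  show (qElt₀ 1).1 = t
  rw [qElt₀_val, t_eq]
  exact sameW_eq (by decide +kernel)

theorem exists_q {x : S} (hx : ηp x = 1) : ∃ a : Fin 32, ((qElt a : Q) : S) = x := by
  obtain ⟨a, ha⟩ := qElt_bijective.2 ⟨x, ηp_one.mp hx⟩
  exact ⟨a, congrArg Subtype.val ha⟩

theorem three_invols : ∀ a : Fin 32, ∃ b ∈ (0 :: qInv), ∃ c ∈ (0 :: qInv), ∃ d ∈ (0 :: qInv),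
    qm (qm b c) d = a := by decide +kernel

theorem act_exists : ((List.finRange 60).any fun b => (List.finRange 32).any fun a =>
    !sameW (wsub hW (hReps.getD b.val []) ++ qW a.val) (qW a.val ++ wsub hW (hReps.getD b.val [])) &&
    !sameW (wsub hW (hReps.getD b.val []) ++ qW a.val)
      (0 :: (qW a.val ++ wsub hW (hReps.getD b.val [])))) = true := by decide +kernel

theorem out_word : sameW (wsub hW (hReps.getD 1 []) ++ wsub hW (hReps.getD 1 [])) [] = true ∧
    decide (∀ k, wordMap (wsub hW (hReps.getD 1 [])) k = k) = false := by decide +kernel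

theorem letters_zero_cons {w : List Nat} (h : checkLetters 4 [w] = true) :
    checkLetters 4 [0 :: w] = true :=
  letters_append (v := [0]) (by decide +kernel) h

/-- The 2-fusion system of a group isomorphic to the presented group is simple. -/
theorem fusion_simple {G : Type*} [Group G] [Finite G] (φ : G ≃* P) (T : Sylow 2 G) :
    (Cfsg.groupFusionSystem (T : Subgroup G)).IsSimple 2 := by
  have := finite_P
  refine HJT.FusionSimple.simple_of_equiv φ t S (fun x => mem_S) ηp t_ne ?_ ?_ ?_ ?_ ?_ ?_ ?_ ?_ T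
  · rw [S_eq_C]
    have h := Subgroup.card_mul_index C
    rw [card_C, card_P] at h
    omega
  · rintro ⟨x, hx⟩
    obtain ⟨j, hj⟩ := (IsPGroup.of_card (p := 2) (n := 5) (show Nat.card Q = 2 ^ 5 by rw [card_Q]; rfl))
      ⟨x, ηp_one.mp hx⟩
    exact ⟨j, Subtype.ext (show x ^ 2 ^ j = 1 from congrArg Subtype.val hj)⟩
  · rw [ηp, MonoidHom.range_comp, MonoidHom.range_eq_top.mpr η₀_surjective, ← MonoidHom.range_eq_map,
      Subgroup.range_subtype]
  · intro x hx hc
    obtain ⟨a, rfl⟩ := exists_q hx
    have hca : qElt a ∈ Subgroup.center Q := Subgroup.mem_center_iff.mpr fun q =>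
      Subtype.ext (hc q.1 (ηp_one.mpr q.2)).symm
    rcases (center_Q a).mp hca with rfl | rfl
    · left; rw [qElt_zero]; rfl
    · exact Or.inr qElt_one_val
  · obtain ⟨b, -, hb⟩ := List.any_eq_true.mp act_exists
    obtain ⟨a, -, ha⟩ := List.any_eq_true.mp hb
    simp only [Bool.and_eq_true, Bool.not_eq_true'] at ha
    have hw : ((hElt₀ b : S) : P) = ev Lp (wsub hW (hReps.getD b.val [])) := Lh3_val _
    have hq : (((qElt a : Q) : S) : P) = ev Lp (qW a.val) := qElt₀_val a
    refine ⟨hElt₀ b, (qElt a).1, ηp_one.mpr (qElt a).2, fun h => ?_, fun h => ?_⟩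
    · have e : ev Lp (wsub hW (hReps.getD b.val []) ++ qW a.val) =
          ev Lp (qW a.val ++ wsub hW (hReps.getD b.val [])) := by
        simp only [Subgroup.coe_mul, InvMemClass.coe_inv] at h
        rw [ev_append, ev_append, ← hw, ← hq]
        exact mul_inv_eq_iff_eq_mul.mp h
      rw [sameW_of_eq (letters_append (h_letters b) (qW_letters a))
        (letters_append (qW_letters a) (h_letters b)) e] at ha
      exact Bool.noConfusion ha.1
    · have e : ev Lp (wsub hW (hReps.getD b.val []) ++ qW a.val) =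
          ev Lp (0 :: (qW a.val ++ wsub hW (hReps.getD b.val []))) := by
        simp only [Subgroup.coe_mul, InvMemClass.coe_inv] at h
        rw [ev_cons, ev_append, ev_append, ← hw, ← hq, ← mul_assoc]
        exact mul_inv_eq_iff_eq_mul.mp h
      rw [sameW_of_eq (letters_append (h_letters b) (qW_letters a))
        (letters_zero_cons (letters_append (qW_letters a) (h_letters b))) e] at ha
      exact Bool.noConfusion ha.2
  · intro x y hx hy
    obtain ⟨a, rfl⟩ := exists_q hx
    obtain ⟨b, rfl⟩ := exists_q hy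
    have e : qElt a * qElt b * (qElt a)⁻¹ = qElt b ∨
        qElt a * qElt b * (qElt a)⁻¹ = qElt 1 * qElt b := by
      rw [mul_inv_eq_iff_eq_mul, mul_inv_eq_iff_eq_mul, qElt_mul, qElt_mul]
      rcases q_facts.1 a b with h | h
      · exact Or.inl (by rw [h])
      · right
        rw [← h, ← qElt_mul, ← qElt_mul, mul_assoc]
        have hc := Subgroup.mem_center_iff.mp ((center_Q 1).mpr (Or.inr rfl))
        rw [← mul_assoc, hc, mul_assoc]
    refine e.imp (fun h => ?_) (fun h => ?_)
    · exact congrArg (fun q : Q => ((q : S) : P)) h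
    · rw [← qElt_one_val]
      exact congrArg (fun q : Q => ((q : S) : P)) h
  · intro T hT x hx
    obtain ⟨a, rfl⟩ := exists_q hx
    have hinv : ∀ b ∈ (0 :: qInv), (((qElt b : Q) : S) : P) ∈ T := by
      intro b hb
      rcases List.mem_cons.mp hb with rfl | hb
      · rw [qElt_zero]; exact one_mem T
      simp only [qInv, List.mem_filter, List.mem_finRange, true_and, Bool.and_eq_true,
        decide_eq_true_eq, Bool.not_eq_true', decide_eq_false_iff_not] at hb
      have ho : orderOf (((qElt b : Q) : S) : P) = 2 := by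
        rw [Subgroup.orderOf_coe, Subgroup.orderOf_coe]
        refine orderOf_eq_prime (by rw [pow_two, qElt_mul, hb.1, qElt_zero]) fun h => hb.2 ?_
        exact qElt_bijective.1 (h.trans qElt_zero.symm)
      obtain ⟨g, hg⟩ := isConj_iff.mp (isConj_involution ho)
      have hm : g * t * g⁻¹ ∈ S := hg ▸ (qElt b).1.2
      have := hT g hm (by
        rw [show (⟨_, hm⟩ : S) = (qElt b).1 from Subtype.ext hg]
        exact ηp_one.mpr (qElt b).2)
      rwa [hg] at this
    obtain ⟨b, hb, c, hc, d, hd, rfl⟩ := three_invols a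
    rw [← qElt_mul, ← qElt_mul]
    exact mul_mem (mul_mem (hinv b hb) (hinv c hc)) (hinv d hd)
  · obtain ⟨h2, hk⟩ := out_word
    obtain ⟨p, hpk, hp⟩ := maps_word (h_maps 1)
    set u : P := ev Lp (wsub hW (hReps.getD 1 [])) with hu
    have hu2 : u * u = 1 := by
      have := sameW_eq h2
      rwa [ev_append, ev_nil, ← hu] at this
    have huS : u ∈ S := by
      have := (hElt₀ 1).2
      rwa [hElt₀, Lh3_val] at this
    have hηu : ηp ⟨u, huS⟩ ≠ 1 := fun e => by
      refine of_decide_eq_false hk fun k => ?_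
      have h1 : (η₀ ⟨u, huS⟩).1 = p := η₀_eq hp
      show wordMap (wsub hW (hReps.getD (1 : Fin 60).val [])) k = k
      rw [← hpk, ← h1, ηp_one.mp e]; rfl
    have hu1 : u ≠ 1 := fun e => hηu (by
      rw [show (⟨u, huS⟩ : S) = 1 from Subtype.ext e, map_one])
    obtain ⟨g, hg⟩ := isConj_iff.mp (isConj_involution
      (orderOf_eq_prime (by rw [pow_two]; exact hu2) hu1))
    have hm : g * (((qElt 1 : Q) : S) : P) * g⁻¹ ∈ S := by rw [qElt_one_val, hg]; exact huS
    refine ⟨(qElt 1).1, ηp_one.mpr (qElt 1).2, g, hm, fun e => hηu ?_⟩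
    rw [← e]
    congr 1
    exact Subtype.ext (by simp only [qElt_one_val, hg])

end CfsgLib.J3Local
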