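import Cfsg.Agent.J3Local.Cent
import Cfsg.Agent.J3Local.Bridge
import Cfsg.Agent.Solvable.PGroupBasic
import Cfsg.Agent.Monster.ExtraBasics

/-! Transfer to the matrix group. -/

set_option autoImplicit false
set_option maxRecDepth 100000

namespace CfsgLib.J3Local

open CfsgLib.Coset CfsgLib.Coset.J3

theorem isExtraspecial_congr {A B : Type*} [Group A] [Group B] [Finite A] [Finite B] (φ : A ≃* B)
    (h : Cfsg.IsExtraspecial 2 A) : Cfsg.IsExtraspecial 2 B := by
  obtain ⟨⟨hp, hf, hc⟩, hz⟩ := h
  have hc1 : Nat.card (Subgroup.center B) = 2 := by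
    rw [← hz]; exact (Nat.card_congr (Subgroup.centerCongr φ).toEquiv).symm
  have hz' : ∀ a : A, a ∈ Subgroup.center A → φ a ∈ Subgroup.center B := fun a ha => by
    rw [Subgroup.mem_center_iff] at ha ⊢
    intro b
    obtain ⟨c, rfl⟩ := φ.surjective b
    rw [← map_mul, ← map_mul, ha]
  refine CfsgLib.Monster.isExtraspecial_of (hp.of_equiv φ) hc1 ?_ ?_ ?_
  · intro x y
    obtain ⟨a, rfl⟩ := φ.surjective x
    obtain ⟨b, rfl⟩ := φ.surjective y
    rw [← map_inv, ← map_inv, ← map_mul, ← map_mul, ← map_mul]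
    refine hz' _ (hc ▸ ?_)
    rw [← commutatorElement_def, commutator_def]
    exact Subgroup.commutator_mem_commutator (Subgroup.mem_top a) (Subgroup.mem_top b)
  · intro x
    obtain ⟨a, rfl⟩ := φ.surjective x
    rw [← map_mul]
    refine hz' _ (hf ▸ ?_)
    rw [← pow_two]
    have : Fact (Nat.Prime 2) := ⟨Nat.prime_two⟩
    exact (CfsgLib.PGroupBasic.commutator_pow_le_frattini hp).2 a
  · by_contra hne
    push Not at hne
    have h1 : Subgroup.center B = ⊤ := eq_top_iff.mpr fun b _ =>
      Subgroup.mem_center_iff.mpr fun c => hne c b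
    rw [h1, Subgroup.card_top] at hc1
    have h2 : (Subgroup.center A) = ⊤ := eq_top_iff.mpr fun a _ =>
      Subgroup.mem_center_iff.mpr fun c => φ.injective (by rw [map_mul, map_mul, hne])
    have : commutator A = ⊥ := by
      rw [commutator_def, eq_bot_iff, Subgroup.commutator_le]
      intro a _ b _
      rw [Subgroup.mem_bot, commutatorElement_eq_one_iff_mul_comm]
      exact φ.injective (by rw [map_mul, map_mul, hne])
    rw [hc, h2] at this
    have h3 : Nat.card A = 2 := by rw [← hz, h2, Subgroup.card_top]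
    have h4 : Subsingleton A := ⟨fun a b => by
      have ha : a ∈ (⊥ : Subgroup A) := this ▸ Subgroup.mem_top a
      have hb : b ∈ (⊥ : Subgroup A) := this ▸ Subgroup.mem_top b
      rw [Subgroup.mem_bot] at ha hb
      rw [ha, hb]⟩
    rw [Nat.card_of_subsingleton (1 : A)] at h3
    omega

theorem structure_of_equiv {D : Type*} [Group D] (g : S ≃* D) :
    ∃ (Q' : Subgroup D) (_ : Q'.Normal), Cfsg.IsExtraspecial 2 Q' ∧ Nat.card Q' = 32 ∧
      (∀ E : Subgroup Q', Cfsg.IsElementaryAbelian 2 E → Nat.card E ≤ 2 ^ 2) ∧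
      (∃ H : Subgroup D, Q'.IsComplement' H) ∧ Nonempty (D ⧸ Q' ≃* alternatingGroup (Fin 5)) := by
  have := finite_P
  have : Finite D := Finite.of_equiv _ g.toEquiv
  have hn : (Q.map (g : S →* D)).Normal := by
    have : Q.Normal := η₀.normal_ker
    exact this.map _ g.surjective
  let e : Q ≃* Q.map (g : S →* D) := g.subgroupMap Q
  refine ⟨Q.map (g : S →* D), hn, isExtraspecial_congr e extra, ?_, ?_, ⟨H₀.map (g : S →* D), ?_⟩, ⟨?_⟩⟩
  · rw [← Nat.card_congr e.toEquiv, card_Q]
  · intro E hE
    have h := elementary_le (E.comap e.toMonoidHom) ⟨⟨⟨fun a b => ?_⟩⟩, fun a => ?_⟩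
    · rw [show E.comap e.toMonoidHom = E.map e.symm.toMonoidHom from
        Subgroup.comap_equiv_eq_map_symm e E,
        show Nat.card (E.map e.symm.toMonoidHom) = Nat.card E from
          (Nat.card_congr (e.symm.subgroupMap E).toEquiv).symm] at h
      exact h
    · exact Subtype.ext (e.injective (by
        have := congrArg Subtype.val (hE.1.is_comm.comm ⟨e a.1, a.2⟩ ⟨e b.1, b.2⟩)
        rw [Subgroup.coe_mul, Subgroup.coe_mul] at this
        rw [Subgroup.coe_mul, Subgroup.coe_mul, map_mul, map_mul]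
        exact this))
    · intro ha
      apply e.injective
      rw [map_pow, map_one]
      exact hE.2 (e a) ha
  · have hQ : ∀ K : Subgroup S, Nat.card (K.map (g : S →* D)) = Nat.card K := fun K =>
      (Nat.card_congr (g.subgroupMap K).toEquiv).symm
    refine Subgroup.isComplement'_of_card_mul_and_disjoint ?_ ?_
    · rw [hQ, hQ, complement.card_mul, Nat.card_congr g.toEquiv]
    · exact Subgroup.disjoint_map g.injective complement.disjoint
  · exact (QuotientGroup.congr η₀.ker (Q.map (g : S →* D)) g rfl).symm.trans quotQ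

/-- Transport of centralisers. -/
noncomputable def centEquiv {G : Type*} [Group G] (e : P ≃* G) :
    C ≃* Subgroup.centralizer ({e t} : Set G) :=
  ((e.subgroupMap C)).trans (MulEquiv.subgroupCongr (by
    ext x
    rw [Subgroup.mem_centralizer_singleton_iff]
    constructor
    · rintro ⟨c, hc, rfl⟩
      show e c * e t = e t * e c
      rw [← map_mul, ← map_mul, mem_C.mp hc]
    · intro hx
      refine ⟨e.symm x, mem_C.mpr (e.injective ?_), e.apply_symm_apply x⟩
      rw [map_mul, map_mul, e.apply_symm_apply, hx]))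

theorem centraliser_structure {G : Type*} [Group G] (e : P ≃* G) :
    (∀ x y : G, orderOf x = 2 → orderOf y = 2 → IsConj x y) ∧
    ∃ s : G, orderOf s = 2 ∧ ∃ (Q' : Subgroup (Subgroup.centralizer ({s} : Set G))) (_ : Q'.Normal),
      Cfsg.IsExtraspecial 2 Q' ∧ Nat.card Q' = 32 ∧
      (∀ E : Subgroup Q', Cfsg.IsElementaryAbelian 2 E → Nat.card E ≤ 2 ^ 2) ∧
      (∃ H : Subgroup (Subgroup.centralizer ({s} : Set G)), Q'.IsComplement' H) ∧
      Nonempty (Subgroup.centralizer ({s} : Set G) ⧸ Q' ≃* alternatingGroup (Fin 5)) := by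
  refine ⟨fun x y hx hy => ?_, e t, by rw [MulEquiv.orderOf_eq, orderOf_t],
    structure_of_equiv (eS.trans (centEquiv e))⟩
  have h1 := isConj_involution (x := e.symm x) (by rw [MulEquiv.orderOf_eq, hx])
  have h2 := isConj_involution (x := e.symm y) (by rw [MulEquiv.orderOf_eq, hy])
  have h := (e : P →* G).map_isConj (h1.symm.trans h2)
  simpa using h

end CfsgLib.J3Local
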