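import Cfsg.Agent.J3Local.OutChk
import Cfsg.Prelude.Def_KGroupFacts

/-! The outer automorphism group has order two. -/

set_option autoImplicit false
set_option maxRecDepth 100000

namespace CfsgLib.J3Local

open CfsgLib.Coset CfsgLib.Coset.J3

theorem ev_map_hom {G H : Type*} [Group G] [Group H] (f : G →* H) (L : List G) :
    ∀ w, ev (L.map f) w = f (ev L w)
  | [] => by simp
  | l :: w => by
    rw [ev_cons, ev_cons, map_mul, ev_map_hom f L w]
    congr 1
    rw [fl, fl, ← List.getD_map (f := f), map_one]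

theorem letters_pw {w : List Nat} (hw : checkLetters 4 [w] = true) :
    ∀ n, checkLetters 4 [pw n w] = true := by
  intro n
  induction n with
  | zero => simp only [pw, List.replicate_zero, List.flatten_nil]; decide +kernel
  | succ n ih => rw [pw, List.replicate_succ, List.flatten_cons]; exact letters_append hw ih

theorem letters_wsub {ws : List (List Nat)} (h : ∀ x ∈ ws, checkLetters 4 [x] = true) :
    ∀ w, checkLetters 4 [wsub ws w] = true := by
  intro w
  induction w with
  | nil => simp only [wsub, List.map_nil, List.flatten_nil]; decide +kernel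
  | cons l w ih =>
    rw [wsub, List.map_cons, List.flatten_cons]
    refine letters_append ?_ ih
    rcases lt_or_ge l ws.length with hl | hl
    · rw [List.getD_eq_getElem _ _ hl]; exact h _ (List.getElem_mem hl)
    · rw [List.getD_eq_default _ _ hl]; decide +kernel

theorem letters_reverse {w : List Nat} (h : checkLetters 4 [w] = true) :
    checkLetters 4 [w.reverse] = true := by
  simp only [checkLetters, allList_iff, List.mem_singleton, forall_eq] at h ⊢
  exact fun y hy => h y (List.mem_reverse.mp hy)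

theorem tw_letters (i : Fin 26163) : checkLetters 4 [tw 13 i.val] = true := by
  have h := xw_letters i
  simp only [xw, checkLetters, allList_iff, List.mem_singleton, forall_eq] at h ⊢
  exact fun y hy => h y (List.mem_append_left _ (List.mem_append_left _ hy))

theorem ev_pw (n : Nat) (w : List Nat) : ev Lp (pw n w) = ev Lp w ^ n := by
  induction n with
  | zero => simp [pw]
  | succ n ih => rw [pw, List.replicate_succ, List.flatten_cons, ev_append, ← pw, ih, pow_succ']

theorem exists_cOrd {x : P} (hx : orderOf x = 2) (hC : x ∈ C) :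
    ∃ i : Fin 26163, i.val ∈ cOrd ∧ x = X i := by
  have := finite_P
  rw [← S_eq_C] at hC
  obtain ⟨⟨⟨q, hq⟩, ⟨h, hh⟩⟩, hqh⟩ := complement.2 ⟨x, hC⟩
  change q * h = (⟨x, hC⟩ : S) at hqh
  obtain ⟨a, ha⟩ := qElt_bijective.2 ⟨q, hq⟩
  obtain ⟨b, hb⟩ := hElt₀_bijective.2 ⟨h, hh⟩
  have e : ev Lp (qW a.val ++ wsub hW (hReps.getD b.val [])) = x := by
    rw [ev_append, ← qElt₀_val, ← Lh3_val]
    rw [show (qElt₀ a) = q from congrArg Subtype.val ha,
      show ev Lh3 (hReps.getD b.val []) = h from congrArg Subtype.val hb]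
    exact congrArg Subtype.val hqh
  have hl := letters_append (qW_letters a) (h_letters b)
  have hr := List.all_eq_true.mp inv_check a.val (List.mem_range.mpr a.isLt)
  rw [invRow] at hr
  have hc := List.all_eq_true.mp hr b.val (List.mem_range.mpr b.isLt)
  simp only [invOK, Bool.or_eq_true, Bool.not_eq_true'] at hc
  rcases hc with (hc | hc) | hc
  · exfalso
    have e' := sameW_eq hc
    rw [e, ev_nil] at e'
    rw [e', orderOf_one] at hx
    omega
  · exfalso
    rw [sameW_of_eq (w := []) (letters_append hl hl) (by decide +kernel)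
      (by rw [ev_append, e, ev_nil, ← pow_two, ← hx, pow_orderOf_eq_one])] at hc
    exact Bool.noConfusion hc
  · obtain ⟨c, hcm, hc⟩ := List.any_eq_true.mp hc
    simp only [Bool.and_eq_true] at hc
    obtain ⟨j, hj, hje⟩ := List.any_eq_true.mp (List.all_eq_true.mp cert_mem c hcm)
    have e' := sameW_eq hc.2
    rw [e, show c.2.2 = (⟨c.2.2, Nat.le_of_ble_eq_true hc.1.2⟩ : Fin 26163).val from rfl, ev_xw] at e'
    exact ⟨_, Nat.eq_of_beq_eq_true hje ▸ hj, e'⟩

theorem X_order (i : Fin 26163) : orderOf (X i) = 2 := by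
  rw [show X i = MulAut.conj (T i) t from rfl, MulEquiv.orderOf_eq, orderOf_t]

/-- An involution commuting with a conjugate of `t`. -/
theorem exists_comm {g y : P} (hy : orderOf y = 2) (hc : y * (g * t * g⁻¹) = g * t * g⁻¹ * y) :
    ∃ i : Fin 26163, i.val ∈ cOrd ∧ y = g * X i * g⁻¹ := by
  obtain ⟨i, hi, e⟩ := exists_cOrd (x := g⁻¹ * y * g)
    (by rw [show g⁻¹ * y * g = MulAut.conj g⁻¹ y by simp [MulAut.conj_apply], MulEquiv.orderOf_eq, hy])
    (mem_C.mpr (by
      calc g⁻¹ * y * g * t = g⁻¹ * (y * (g * t * g⁻¹)) * g := by group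
        _ = g⁻¹ * (g * t * g⁻¹ * y) * g := by rw [hc]
        _ = t * (g⁻¹ * y * g) := by group))
  exact ⟨i, hi, by rw [← e]; group⟩

/-- The first representative. -/
noncomputable def rI (k : Fin 2) : Fin 26163 := ⟨srep k.val, by
  fin_cases k
  · exact srep_lt.1
  · exact srep_lt.2.1⟩

/-- The original tuple. -/
noncomputable def u0 : P := ev Lp (uW 0 orig.1)

/-- The original last element. -/
noncomputable def v0 : P := ev Lp (vW 0 orig.1 orig.2)

theorem ev_uW (k a : Nat) : ev Lp (uW k a) = ev Lp (gU k a) * t * (ev Lp (gU k a))⁻¹ := by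
  rw [uW, ev_append, ev_append, ev_reverse, t_eq]

theorem ev_vW (k a : Nat) (b : Fin 26163) :
    ev Lp (vW k a b.val) = ev Lp (gU k a) * X b * (ev Lp (gU k a))⁻¹ := by
  rw [vW, ev_append, ev_append, ev_reverse, ev_xw]

theorem ev_gU (k : Fin 2) (a : Fin 26163) : ev Lp (gU k.val a.val) = T (rI k) * T a := by
  rw [gU, ev_append]; rfl

theorem gU_letters (k : Fin 2) (a : Fin 26163) : checkLetters 4 [gU k.val a.val] = true :=
  letters_append (tw_letters (rI k)) (tw_letters a)

theorem tup_letters (k : Fin 2) (a b : Fin 26163) :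
    ∀ x ∈ tup k.val a.val b.val, checkLetters 4 [x] = true := by
  have hg := gU_letters k a
  have hg' := letters_reverse hg
  have h0 : checkLetters 4 [[0]] = true := by decide +kernel
  intro x hx
  simp only [tup, List.mem_cons, List.not_mem_nil, or_false] at hx
  rcases hx with rfl | rfl | rfl | rfl
  · exact h0
  · exact xw_letters (rI k)
  · exact letters_append (letters_append hg h0) hg'
  · exact letters_append (letters_append hg (xw_letters b)) hg'

theorem orig_facts : X (rI 0) ∈ C ∧ u0 * X (rI 0) = X (rI 0) * u0 ∧ v0 * u0 = u0 * v0 ∧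
    (∀ w ∈ uTests ++ vTests, ev Lp (pw w.2 (wsub (tup 0 orig.1 orig.2) w.1)) = 1) := by
  have h := orig_check
  simp only [Bool.and_eq_true] at h
  obtain ⟨⟨⟨h1, h2⟩, h3⟩, h4⟩ := h
  refine ⟨?_, ?_, ?_, fun w hw => ?_⟩
  · rw [← ev_xw]; exact mem_C_word h1
  · have := sameW_eq h3
    rw [ev_append, ev_append] at this
    rw [← ev_xw]; exact this
  · have := sameW_eq h4
    rw [ev_append, ev_append] at this
    exact this
  · rw [sameW_eq (List.all_eq_true.mp h2 w hw), ev_nil]

theorem orig_lt : orig.1 < 26163 ∧ orig.2 < 26163 := by decide +kernel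

theorem orderOf_u0 : orderOf u0 = 2 := by
  rw [u0, ev_uW, show ev Lp (gU 0 orig.1) * t * (ev Lp (gU 0 orig.1))⁻¹ =
    MulAut.conj (ev Lp (gU 0 orig.1)) t from rfl, MulEquiv.orderOf_eq, orderOf_t]

theorem orderOf_v0 : orderOf v0 = 2 := by
  rw [v0, ev_vW 0 orig.1 ⟨orig.2, orig_lt.2⟩, show ev Lp (gU 0 orig.1) * X ⟨orig.2, orig_lt.2⟩ *
    (ev Lp (gU 0 orig.1))⁻¹ = MulAut.conj (ev Lp (gU 0 orig.1)) (X ⟨orig.2, orig_lt.2⟩) from rfl,
    MulEquiv.orderOf_eq, X_order]

theorem runs_of_eq {T : List (List Nat)} {w : List Nat × Nat}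
    (hl : checkLetters 4 [pw w.2 (wsub T w.1)] = true) (h : ev Lp (pw w.2 (wsub T w.1)) = 1) :
    allList (fun b => Nat.beq (runP T w.1 w.2 b) b) (base.map Fin.val) = true := by
  have h' := sameW_of_eq (w := []) hl (by decide +kernel) (by rw [h, ev_nil])
  simp only [sameW, Bool.and_eq_true] at h'
  refine allList_iff.mpr fun b hb => ?_
  rw [runP_eq]
  exact allList_iff.mp h'.2 b hb

theorem uOK_spec {k a : Nat} (h : uOK k a = true) (hu : passes uTests [[0], xw (srep k), uW k a, []] = true)
    {b : Nat} (hb : b ∈ cOrd) (hv : passes vTests (tup k a b) = true) :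
    k = 0 ∧ ∃ p ∈ survivors, p.1 = a ∧ p.2 = b := by
  simp only [uOK, forceL_eq, hu, Bool.not_true, Bool.false_or] at h
  have h' := List.all_eq_true.mp h b hb
  rw [show gU k a ++ xw b ++ (gU k a).reverse = vW k a b from rfl,
    show [[0], xw (srep k), uW k a, vW k a b] = tup k a b from rfl, hv] at h'
  simp only [Bool.not_true, Bool.false_or, Bool.and_eq_true] at h'
  obtain ⟨p, hp, hpe⟩ := List.any_eq_true.mp h'.2
  rw [Bool.and_eq_true] at hpe
  exact ⟨Nat.eq_of_beq_eq_true h'.1, p, hp, Nat.eq_of_beq_eq_true hpe.1,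
    Nat.eq_of_beq_eq_true hpe.2⟩

/-- An automorphism sending `t`, `s` to `t` and a representative is one of those listed. -/
theorem images (β : MulAut P) (k : Fin 2) (ht : β t = t) (hs : β (X (rI 0)) = X (rI k)) :
    k = 0 ∧ ∃ p ∈ survivors, β u0 = ev Lp (uW 0 p.1) ∧ β v0 = ev Lp (vW 0 p.1 p.2) := by
  obtain ⟨-, hus, hvu, htests⟩ := orig_facts
  obtain ⟨a, ha, hua⟩ := exists_comm (g := T (rI k)) (y := β u0)
    (by rw [MulEquiv.orderOf_eq, orderOf_u0])
    (by change β u0 * X (rI k) = X (rI k) * β u0; rw [← hs, ← map_mul, ← map_mul, hus])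
  have hU : β u0 = ev Lp (uW k.val a.val) := by
    rw [hua, ev_uW, ev_gU, X]; group
  obtain ⟨b, hb, hvb⟩ := exists_comm (g := ev Lp (gU k.val a.val)) (y := β v0)
    (by rw [MulEquiv.orderOf_eq, orderOf_v0])
    (by rw [← ev_uW, ← hU, ← map_mul, ← map_mul, hvu])
  have hV : β v0 = ev Lp (vW k.val a.val b.val) := by rw [hvb, ev_vW]
  have hL0 : (tup 0 orig.1 orig.2).map (ev Lp) = [t, X (rI 0), u0, v0] := by
    simp [tup, u0, v0, t, ← ev_xw, rI]
  have hLu : ∀ b' : Fin 26163, (tup k.val a.val b'.val).map (ev Lp) =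
      [t, X (rI k), β u0, ev Lp (vW k.val a.val b'.val)] := by
    intro b'
    simp [tup, hU, t, ← ev_xw, rI]
  have hmap : ([t, X (rI 0), u0, v0] : List P).map β.toMonoidHom =
      [t, X (rI k), β u0, β v0] := by simp [ht, hs]
  have hv : ∀ w ∈ uTests ++ vTests, ev Lp (pw w.2 (wsub (tup k.val a.val b.val) w.1)) = 1 := by
    intro w hw
    rw [ev_pw, ← ev_map, hLu, ← hV, ← hmap, ev_map_hom, ← map_pow, ← hL0, ev_map, ← ev_pw,
      htests w hw, map_one]
  have hu : passes uTests [[0], xw (srep k.val), uW k.val a.val, []] = true := by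
    refine List.all_eq_true.mpr fun w hw => ?_
    have h3 : ∀ l ∈ w.1, l < 3 := by
      have : (uTests.all fun w => w.1.all fun l => decide (l < 3)) = true := by decide +kernel
      exact fun l hl => of_decide_eq_true (List.all_eq_true.mp (List.all_eq_true.mp this w hw) l hl)
    have e : wsub [[0], xw (srep k.val), uW k.val a.val, []] w.1 =
        wsub (tup k.val a.val b.val) w.1 := by
      refine congrArg List.flatten (List.map_congr_left fun l hl => ?_)
      have := h3 l hl
      interval_cases l <;> rfl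
    exact runs_of_eq (e ▸ letters_pw (letters_wsub (tup_letters k a b) _) _)
      (e ▸ hv w (List.mem_append_left _ hw))
  have hv' : passes vTests (tup k.val a.val b.val) = true :=
    List.all_eq_true.mpr fun w hw =>
      runs_of_eq (letters_pw (letters_wsub (tup_letters k a b) _) _)
        (hv w (List.mem_append_right _ hw))
  have hk : uOK k.val a.val = true := by
    fin_cases k
    · exact List.all_eq_true.mp u_check0 _ ha
    · exact List.all_eq_true.mp u_check1 _ ha
  obtain ⟨h0, p, hp, hp1, hp2⟩ := uOK_spec hk hu hb hv'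
  have k0 : k = 0 := Fin.ext h0
  subst k0
  exact ⟨rfl, p, hp, by rw [hp1]; exact hU, by rw [hp1, hp2]; exact hV⟩

theorem ext_tuple {β γ : MulAut P} (ht : β t = γ t) (hs : β (X (rI 0)) = γ (X (rI 0)))
    (hu : β u0 = γ u0) (hv : β v0 = γ v0) : β = γ := by
  have h : β.toMonoidHom = γ.toMonoidHom := by
    refine MonoidHom.eq_of_eqOn_dense closure_Lp fun y hy => ?_
    obtain ⟨l, hl, rfl⟩ := List.getElem_of_mem hy
    have hl4 : l < 4 := by rwa [len_Lp] at hl
    have e := sameW_eq (List.all_eq_true.mp gen_check l (List.mem_range.mpr hl4))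
    have hL0 : (tup 0 orig.1 orig.2).map (ev Lp) = [t, X (rI 0), u0, v0] := by
      simp [tup, u0, v0, t, ← ev_xw, rI]
    rw [← ev_map, hL0, ev_cons, ev_nil, mul_one, fl, List.getD_eq_getElem _ _ hl] at e
    rw [← e, ← ev_map_hom, ← ev_map_hom]
    simp [ht, hs, hu, hv]
  exact MulEquiv.ext fun x => DFunLike.congr_fun h x

theorem finite_aut : Finite (MulAut P) :=
  have := finite_P
  Finite.of_injective (fun a : MulAut P => (a : P → P)) fun _ _ h => MulEquiv.ext (congrFun h)

/-- The automorphisms fixing two elements. -/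
def A0 : Type := {α : MulAut P // α t = t ∧ α (X (rI 0)) = X (rI 0)}

/-- The automorphisms fixing `t`. -/
def A1 : Type := {α : MulAut P // α t = t}

theorem card_A0 : Finite A0 ∧ Nat.card A0 ≤ 32 := by
  have := finite_aut
  have hf : Finite A0 := Subtype.finite
  refine ⟨hf, ?_⟩
  choose p hp hu hv using fun α : A0 => (images α.1 0 α.2.1 α.2.2).2
  have h := Nat.card_le_card_of_injective (fun α : A0 => (⟨p α, hp α⟩ : {q // q ∈ survivors}))
    fun α β e => by
      have e' : p α = p β := congrArg Subtype.val e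
      exact Subtype.ext (ext_tuple (by rw [α.2.1, β.2.1]) (by rw [α.2.2, β.2.2])
        (by rw [hu α, hu β, e']) (by rw [hv α, hv β, e']))
  refine h.trans ?_
  rw [← show survivors.length = 32 by decide +kernel]
  classical
  rw [Nat.card_congr (Equiv.subtypeEquivRight (q := fun x => x ∈ survivors.toFinset) fun x => by simp),
    Nat.card_eq_fintype_card, Fintype.card_coe]
  exact List.toFinset_card_le _

/-- The orbit of the first representative. -/
def sOrbit : List (Nat × Nat × List Nat) := sCert.filter fun c => Nat.beq c.2.1 0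

theorem card_A1 : Finite A1 ∧ Nat.card A1 ≤ 3840 := by
  have := finite_aut
  have hf : Finite A1 := Subtype.finite
  have := card_A0.1
  refine ⟨hf, ?_⟩
  have hcase : ∀ α : A1, ∃ c ∈ sOrbit, ∃ β : A0,
      α.1 = MulAut.conj (ev Lp c.2.2) * β.1 := by
    intro α
    obtain ⟨hsC, -⟩ := orig_facts
    obtain ⟨j, hj, e⟩ := exists_cOrd (x := α.1 (X (rI 0))) (by rw [MulEquiv.orderOf_eq, X_order])
      (mem_C.mpr (by
        have e := congrArg α.1 (mem_C.mp hsC)
        rwa [map_mul, map_mul, α.2] at e))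
    have h := List.all_eq_true.mp s_check _ hj
    simp only [sOK, Bool.or_eq_true] at h
    rcases h with h | h
    · exfalso
      have h0 : X j = t := by
        rw [← ev_xw, Nat.eq_of_beq_eq_true h, t_eq]
        exact sameW_eq (by decide +kernel)
      rw [h0] at e
      have e1 : X (rI 0) = t := α.1.injective (e.trans α.2.symm)
      have hz : (⟨0, by norm_num⟩ : Fin 26163) ≠ rI 0 := fun hh =>
        srep_lt.2.2 (congrArg Fin.val hh).symm
      refine hz (X_injective ?_)
      rw [e1, ← ev_xw, t_eq]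
      exact sameW_eq (by decide +kernel)
    · obtain ⟨c, hc, hh⟩ := List.any_eq_true.mp h
      simp only [Bool.and_eq_true] at hh
      obtain ⟨⟨⟨-, hk⟩, h1⟩, h2⟩ := hh
      set g := ev Lp c.2.2
      have hgC := mem_C.mp (mem_C_word h1)
      let k : Fin 2 := ⟨c.2.1, Nat.le_of_ble_eq_true hk⟩
      have hgs : g * X (rI k) * g⁻¹ = α.1 (X (rI 0)) := by
        rw [e, ← ev_xw, ← ev_xw, ← ev_reverse, ← ev_append, ← ev_append]
        exact sameW_eq h2
      set β : MulAut P := (MulAut.conj g)⁻¹ * α.1 with hβ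
      have hβt : β t = t := by
        rw [hβ, MulAut.mul_apply, α.2, MulAut.inv_def, MulEquiv.symm_apply_eq, MulAut.conj_apply,
          hgC, mul_inv_cancel_right]
      have hβs : β (X (rI 0)) = X (rI k) := by
        rw [hβ, MulAut.mul_apply, ← hgs, MulAut.inv_def, MulEquiv.symm_apply_eq, MulAut.conj_apply]
      have hk0 := (images β k hβt hβs).1
      refine ⟨c, List.mem_filter.mpr ⟨hc, ?_⟩, ⟨β, hβt, hk0 ▸ hβs⟩, ?_⟩
      · rw [show c.2.1 = 0 from congrArg Fin.val hk0]; rfl
      · show α.1 = MulAut.conj g * β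
        rw [hβ, mul_inv_cancel_left]
  choose c hc β hβ using hcase
  classical
  have h := Nat.card_le_card_of_injective
    (fun α : A1 => ((⟨c α, List.mem_toFinset.mpr (hc α)⟩ : {q // q ∈ sOrbit.toFinset}), β α))
    fun α α' e => by
      have e1 : c α = c α' := congrArg (fun q : {q // q ∈ sOrbit.toFinset} × A0 => q.1.1) e
      have e2 : β α = β α' := congrArg (fun q : {q // q ∈ sOrbit.toFinset} × A0 => q.2) e
      exact Subtype.ext (by rw [hβ α, hβ α', e1, e2])
  refine h.trans ?_
  rw [Nat.card_prod]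
  refine le_trans (Nat.mul_le_mul ?_ card_A0.2) (show 120 * 32 ≤ 3840 by norm_num)
  rw [Nat.card_eq_fintype_card, Fintype.card_coe]
  exact (List.toFinset_card_le _).trans (by decide +kernel : sOrbit.length ≤ 120)

theorem card_aut_le : Nat.card (MulAut P) ≤ 26163 * 3840 := by
  have := finite_aut
  have := card_A1.1
  have hcase : ∀ α : MulAut P, ∃ (i : Fin 26163) (β : A1), α = MulAut.conj (T i) * β.1 := by
    intro α
    obtain ⟨g, hg⟩ := isConj_iff.mp (isConj_involution (x := α t)
      (by rw [MulEquiv.orderOf_eq, orderOf_t]))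
    obtain ⟨i, hi⟩ := exists_X card_C.ge g
    rw [hg] at hi
    refine ⟨i, ⟨(MulAut.conj (T i))⁻¹ * α, ?_⟩, by rw [mul_inv_cancel_left]⟩
    rw [MulAut.mul_apply, hi, MulAut.inv_def, MulEquiv.symm_apply_eq, MulAut.conj_apply]
    rfl
  choose i β h using hcase
  have hh := Nat.card_le_card_of_injective (fun α => (i α, β α)) fun α α' e => by
    have e1 : i α = i α' := congrArg Prod.fst e
    have e2 : β α = β α' := congrArg Prod.snd e
    exact (h α).trans ((congrArg₂ (fun j (b : A1) => MulAut.conj (T j) * b.1) e1 e2).trans (h α').symm)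
  rw [Nat.card_prod, Nat.card_fin] at hh
  exact hh.trans (Nat.mul_le_mul_left _ card_A1.2)

theorem noncomm : ∃ a b : P, a * b ≠ b * a := by
  refine ⟨fl Lp 0, fl Lp 3, fun h => ?_⟩
  have h1 := sameW_of_eq (v := [0, 3]) (w := [3, 0]) (by decide +kernel) (by decide +kernel)
    (by simpa using h)
  exact absurd h1 (by decide +kernel)

theorem card_inn : Nat.card (Cfsg.Inn P) = 50232960 := by
  have hz : Subgroup.center P = ⊥ := by
    rcases isSimple.eq_bot_or_eq_top_of_normal (Subgroup.center P) inferInstance with h | h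
    · exact h
    · obtain ⟨a, b, hab⟩ := noncomm
      exact absurd (Subgroup.mem_center_iff.mp (h ▸ Subgroup.mem_top b) a) hab
  have hinj : Function.Injective (MulAut.conj : P →* MulAut P) := by
    rw [← MonoidHom.ker_eq_bot_iff, eq_bot_iff, ← hz]
    intro g hg
    rw [Subgroup.mem_center_iff]
    intro x
    have h := DFunLike.congr_fun (MonoidHom.mem_ker.mp hg) x
    rw [MulAut.conj_apply] at h
    exact (mul_inv_eq_iff_eq_mul.mp h).symm
  rw [show Nat.card (Cfsg.Inn P) = Nat.card P from
    (Nat.card_congr (MonoidHom.ofInjective hinj).toEquiv).symm, card_P]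

/-- The endomorphism given by the images of the generators. -/
noncomputable def twist : P →* P :=
  numHom (L := imgW.map (ev Lp)) (by simp [imgW, show imgIx.length = 4 by decide +kernel])
    (fun w hw => by rw [ev_map, sameW_eq (List.all_eq_true.mp img_rels w hw), ev_nil])

theorem twist_ev (w : List Nat) : twist (ev Lp w) = ev Lp (wsub imgW w) := by
  rw [twist, numHom_ev, ev_map]

theorem twist_t : twist t = t := by
  rw [t_eq, twist_ev]
  exact sameW_eq img_zero

theorem exists_outer : ∃ α : MulAut P, α ∉ Cfsg.Inn P := by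
  have := finite_P
  have hinj : Function.Injective twist := by
    rcases isSimple.eq_bot_or_eq_top_of_normal twist.ker inferInstance with h | h
    · exact (MonoidHom.ker_eq_bot_iff twist).mp h
    · refine absurd ?_ t_ne
      rw [← twist_t, MonoidHom.mem_ker.mp (h ▸ Subgroup.mem_top t)]
  refine ⟨MulEquiv.ofBijective twist ⟨hinj, Finite.surjective_of_injective hinj⟩, ?_⟩
  rintro ⟨g, hg⟩
  have hx : ∀ x, g * x * g⁻¹ = twist x := fun x => DFunLike.congr_fun hg x
  have hC : g ∈ C := by
    rw [mem_C]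
    have h := hx t
    rw [twist_t] at h
    exact mul_inv_eq_iff_eq_mul.mp h
  rw [← S_eq_C] at hC
  obtain ⟨⟨⟨q, hq⟩, ⟨h, hh⟩⟩, hqh⟩ := complement.2 ⟨g, hC⟩
  change q * h = (⟨g, hC⟩ : S) at hqh
  obtain ⟨a, ha⟩ := qElt_bijective.2 ⟨q, hq⟩
  obtain ⟨b, hb⟩ := hElt₀_bijective.2 ⟨h, hh⟩
  set cw := qW a.val ++ wsub hW (hReps.getD b.val []) with hcw
  have e : ev Lp cw = g := by
    rw [hcw, ev_append, ← qElt₀_val, ← Lh3_val]
    rw [show (qElt₀ a) = q from congrArg Subtype.val ha,
      show ev Lh3 (hReps.getD b.val []) = h from congrArg Subtype.val hb]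
    exact congrArg Subtype.val hqh
  have hl : checkLetters 4 [cw] = true := letters_append (qW_letters a) (h_letters b)
  have him : ∀ x ∈ imgW, checkLetters 4 [x] = true := List.all_eq_true.mp img_letters
  have key : ∀ w, checkLetters 4 [w] = true →
      sameW (cw ++ w ++ cw.reverse) (wsub imgW w) = true := fun w hw =>
    sameW_of_eq (letters_append (letters_append hl hw) (letters_reverse hl)) (letters_wsub him w)
      (by rw [ev_append, ev_append, ev_reverse, e, hx, twist_ev])
  obtain ⟨o1, o2⟩ := orig_lt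
  have ht := tup_letters 0 ⟨_, o1⟩ ⟨_, o2⟩
  have hr := List.all_eq_true.mp outer_check a.val (List.mem_range.mpr a.isLt)
  rw [notInnerRow] at hr
  have hn := List.all_eq_true.mp hr b.val (List.mem_range.mpr b.isLt)
  rw [notInner, ← hcw, key _ (ht _ (by simp [tup])), key (uW 0 orig.1) (ht _ (by simp [tup])),
    key (vW 0 orig.1 orig.2) (ht _ (by simp [tup]))] at hn
  simp at hn

theorem card_out : Nat.card (Cfsg.Out P) = 2 := by
  have := finite_aut
  have h := Subgroup.card_mul_index (Cfsg.Inn P)
  have hle := card_aut_le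
  rw [card_inn] at h
  have h2 : (Cfsg.Inn P).index ≤ 2 := by omega
  have h0 : 0 < (Cfsg.Inn P).index := Nat.pos_of_ne_zero Subgroup.index_ne_zero_of_finite
  have h1 : (Cfsg.Inn P).index ≠ 1 := by
    intro h1
    obtain ⟨α, hα⟩ := exists_outer
    exact hα (Subgroup.index_eq_one.mp h1 ▸ Subgroup.mem_top α)
  show (Cfsg.Inn P).index = 2
  omega

/-- The outer automorphism group of an isomorphic group. -/
theorem card_out_of_equiv {G : Type*} [Group G] (e : P ≃* G) : Nat.card (Cfsg.Out G) = 2 := by
  let c : MulAut P ≃* MulAut G := MulAut.congr e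
  have hmap : (Cfsg.Inn P).map c.toMonoidHom = Cfsg.Inn G := by
    ext x
    constructor
    · rintro ⟨_, ⟨g, rfl⟩, rfl⟩
      exact ⟨e g, MulEquiv.ext fun y => by simp [c, MulAut.congr]⟩
    · rintro ⟨g, rfl⟩
      refine ⟨MulAut.conj (e.symm g), ⟨_, rfl⟩, MulEquiv.ext fun y => ?_⟩
      simp [c, MulAut.congr]
  rw [← card_out]
  exact (Nat.card_congr (QuotientGroup.congr _ _ c hmap).toEquiv).symm

end CfsgLib.J3Local
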