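import Cfsg.Agent.J3Local.Cent
import Cfsg.Agent.J3Local.OutData
import Mathlib.Tactic.IntervalCases

/-! The finite checks behind the automorphism group. -/

set_option autoImplicit false
set_option maxRecDepth 100000
set_option Elab.async false

namespace CfsgLib.J3Local

open CfsgLib.Coset CfsgLib.Coset.J3

/-- A power of a word. -/
def pw (n : Nat) (w : List Nat) : List Nat := (List.replicate n w).flatten

/-- The representative of a class under the centraliser. -/
def srep (k : Nat) : Nat := sRep.getD k 0

/-- The conjugator of the third element. -/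
noncomputable def gU (k a : Nat) : List Nat := tw 13 (srep k) ++ tw 13 a

/-- The word of the third element. -/
noncomputable def uW (k a : Nat) : List Nat := gU k a ++ [0] ++ (gU k a).reverse

/-- The word of the fourth element. -/
noncomputable def vW (k a b : Nat) : List Nat := gU k a ++ xw b ++ (gU k a).reverse

/-- The words of a tuple. -/
noncomputable def tup (k a b : Nat) : List (List Nat) := [[0], xw (srep k), uW k a, vW k a b]

/-- Evaluate a list of numbers first. -/
noncomputable def forceL {α : Type} (w : List Nat) : (List Nat → α) → α :=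
  List.rec (motive := fun _ => (List Nat → α) → α) (fun k => k [])
    (fun a _ ih k => forceN a fun a => ih fun r => k (a :: r)) w

theorem forceL_eq {α : Type} : ∀ (w : List Nat) (k : List Nat → α), forceL w k = k w := by
  intro w
  induction w with
  | nil => intro k; rfl
  | cons a w ih =>
    intro k
    show (forceN a fun a => forceL w fun r => k (a :: r)) = _
    rw [forceN_eq, ih]

/-- Follow the words of the letters. -/
noncomputable def runT (T : List (List Nat)) (w : List Nat) : Nat → Nat :=
  List.rec (motive := fun _ => Nat → Nat) (fun i => i)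
    (fun l _ ih i => forceN i fun i => forceN (run i (T.getD l [])) ih) w

theorem runT_eq (T : List (List Nat)) : ∀ (w : List Nat) (i : Nat), runT T w i = run i (wsub T w) := by
  intro w
  induction w with
  | nil => intro i; rfl
  | cons l w ih =>
    intro i
    show (forceN i fun i => forceN (run i (T.getD l [])) fun j => runT T w j) = _
    rw [forceN_eq, forceN_eq, ih, run_eq, run_eq, run_eq, wsub, wsub, List.map_cons,
      List.flatten_cons, follow_append]

/-- Follow a power. -/
noncomputable def runP (T : List (List Nat)) (w : List Nat) (n : Nat) : Nat → Nat :=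
  Nat.rec (motive := fun _ => Nat → Nat) (fun i => i) (fun _ ih i => forceN (runT T w i) ih) n

theorem runP_eq (T : List (List Nat)) (w : List Nat) :
    ∀ (n i : Nat), runP T w n i = run i (pw n (wsub T w)) := by
  intro n
  induction n with
  | zero => intro i; rfl
  | succ n ih =>
    intro i
    show (forceN (runT T w i) fun j => runP T w n j) = _
    rw [forceN_eq, ih, runT_eq, run_eq, run_eq, run_eq, show pw (n + 1) (wsub T w) =
      wsub T w ++ pw n (wsub T w) from rfl, follow_append]

/-- The tests of a tuple. -/
noncomputable def passes (ts : List (List Nat × Nat)) (T : List (List Nat)) : Bool :=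
  ts.all fun t => allList (fun b => Nat.beq (runP T t.1 t.2 b) b) (base.map Fin.val)

/-- The possible images. -/
noncomputable def uOK (k a : Nat) : Bool :=
  forceL (xw (srep k)) fun S => forceL (uW k a) fun U => forceL (gU k a) fun g =>
    forceL g.reverse fun g' =>
      !passes uTests [[0], S, U, []] || cOrd.all fun b =>
        forceL (g ++ xw b ++ g') (fun V => !passes vTests [[0], S, U, V]) ||
          (Nat.beq k 0 && survivors.any fun p => Nat.beq p.1 a && Nat.beq p.2 b)

/-- A chunk of the candidates. -/
def chunkU (j : Nat) : List Nat := (cOrd.drop (16 * j)).take 16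

theorem chunkU_all : cOrd = (List.range 9).flatMap chunkU := by decide +kernel

theorem u0_0 : ((chunkU 0).all (uOK 0)) = true := by decide +kernel
theorem u0_1 : ((chunkU 1).all (uOK 0)) = true := by decide +kernel
theorem u0_2 : ((chunkU 2).all (uOK 0)) = true := by decide +kernel
theorem u0_3 : ((chunkU 3).all (uOK 0)) = true := by decide +kernel
theorem u0_4 : ((chunkU 4).all (uOK 0)) = true := by decide +kernel
theorem u0_5 : ((chunkU 5).all (uOK 0)) = true := by decide +kernel
theorem u0_6 : ((chunkU 6).all (uOK 0)) = true := by decide +kernel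
theorem u0_7 : ((chunkU 7).all (uOK 0)) = true := by decide +kernel
theorem u0_8 : ((chunkU 8).all (uOK 0)) = true := by decide +kernel

theorem u_check0 : (cOrd.all (uOK 0)) = true := by
  refine List.all_eq_true.mpr fun a ha => ?_
  rw [chunkU_all, List.mem_flatMap] at ha
  obtain ⟨j, hj, hm⟩ := ha
  have hj' : j < 9 := List.mem_range.mp hj
  interval_cases j
  · exact List.all_eq_true.mp u0_0 a hm
  · exact List.all_eq_true.mp u0_1 a hm
  · exact List.all_eq_true.mp u0_2 a hm
  · exact List.all_eq_true.mp u0_3 a hm
  · exact List.all_eq_true.mp u0_4 a hm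
  · exact List.all_eq_true.mp u0_5 a hm
  · exact List.all_eq_true.mp u0_6 a hm
  · exact List.all_eq_true.mp u0_7 a hm
  · exact List.all_eq_true.mp u0_8 a hm

theorem u1_0 : ((chunkU 0).all (uOK 1)) = true := by decide +kernel
theorem u1_1 : ((chunkU 1).all (uOK 1)) = true := by decide +kernel
theorem u1_2 : ((chunkU 2).all (uOK 1)) = true := by decide +kernel
theorem u1_3 : ((chunkU 3).all (uOK 1)) = true := by decide +kernel
theorem u1_4 : ((chunkU 4).all (uOK 1)) = true := by decide +kernel
theorem u1_5 : ((chunkU 5).all (uOK 1)) = true := by decide +kernel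
theorem u1_6 : ((chunkU 6).all (uOK 1)) = true := by decide +kernel
theorem u1_7 : ((chunkU 7).all (uOK 1)) = true := by decide +kernel
theorem u1_8 : ((chunkU 8).all (uOK 1)) = true := by decide +kernel

theorem u_check1 : (cOrd.all (uOK 1)) = true := by
  refine List.all_eq_true.mpr fun a ha => ?_
  rw [chunkU_all, List.mem_flatMap] at ha
  obtain ⟨j, hj, hm⟩ := ha
  have hj' : j < 9 := List.mem_range.mp hj
  interval_cases j
  · exact List.all_eq_true.mp u1_0 a hm
  · exact List.all_eq_true.mp u1_1 a hm
  · exact List.all_eq_true.mp u1_2 a hm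
  · exact List.all_eq_true.mp u1_3 a hm
  · exact List.all_eq_true.mp u1_4 a hm
  · exact List.all_eq_true.mp u1_5 a hm
  · exact List.all_eq_true.mp u1_6 a hm
  · exact List.all_eq_true.mp u1_7 a hm
  · exact List.all_eq_true.mp u1_8 a hm

/-- The conjugation certificate. -/
noncomputable def sOK (j : Nat) : Bool :=
  Nat.beq j 0 || sCert.any fun c => Nat.beq c.1 j && Nat.blt c.2.1 2 &&
    sameW (c.2.2 ++ [0]) (0 :: c.2.2) &&
    sameW (c.2.2 ++ xw (srep c.2.1) ++ c.2.2.reverse) (xw j)

theorem s_check : (cOrd.all sOK) = true := by decide +kernel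

theorem cert_mem : (invCert.all fun c => cOrd.any fun j => Nat.beq j c.2.2) = true := by
  decide +kernel

theorem cOrd_lt : (cOrd.all fun j => Nat.blt j 26163) = true := by decide +kernel

theorem srep_lt : srep 0 < 26163 ∧ srep 1 < 26163 ∧ srep 0 ≠ 0 := by decide +kernel

theorem orig_check : (sameW (xw (srep 0) ++ [0]) (0 :: xw (srep 0)) &&
    (uTests ++ vTests).all (fun t => sameW (pw t.2 (wsub (tup 0 orig.1 orig.2) t.1)) []) &&
    sameW (uW 0 orig.1 ++ xw (srep 0)) (xw (srep 0) ++ uW 0 orig.1) &&
    sameW (vW 0 orig.1 orig.2 ++ uW 0 orig.1) (uW 0 orig.1 ++ vW 0 orig.1 orig.2)) = true := by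
  decide +kernel

theorem gen_check : ((List.range 4).all fun l =>
    sameW (wsub (tup 0 orig.1 orig.2) (autWords.getD l [])) [l]) = true := by decide +kernel

/-- The images of the generators under the outer automorphism. -/
noncomputable def imgW : List (List Nat) := imgIx.map xw

theorem img_rels : (rels.all fun w => sameW (wsub imgW w) []) = true := by decide +kernel

/-- No centraliser element induces the outer automorphism. -/
noncomputable def notInner (a b : Nat) : Bool :=
  !sameW ((qW a ++ wsub hW (hReps.getD b [])) ++ xw (srep 0) ++ (qW a ++ wsub hW (hReps.getD b [])).reverse)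
    (wsub imgW (xw (srep 0))) ||
  !sameW ((qW a ++ wsub hW (hReps.getD b [])) ++ uW 0 orig.1 ++
      (qW a ++ wsub hW (hReps.getD b [])).reverse) (wsub imgW (uW 0 orig.1)) ||
  !sameW ((qW a ++ wsub hW (hReps.getD b [])) ++ vW 0 orig.1 orig.2 ++
      (qW a ++ wsub hW (hReps.getD b [])).reverse) (wsub imgW (vW 0 orig.1 orig.2))

/-- A row of the check. -/
noncomputable def notInnerRow (a : Nat) : Bool := (List.range 60).all (notInner a)

theorem outer0 : ((List.range 8).all notInnerRow) = true := by decide +kernel
theorem outer1 : ((List.range 8).all fun i => notInnerRow (8 + i)) = true := by decide +kernel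
theorem outer2 : ((List.range 8).all fun i => notInnerRow (16 + i)) = true := by decide +kernel
theorem outer3 : ((List.range 8).all fun i => notInnerRow (24 + i)) = true := by decide +kernel

theorem outer_check : ((List.range 32).all notInnerRow) = true := by
  refine List.all_eq_true.mpr fun a ha => ?_
  have ha' : a < 32 := List.mem_range.mp ha
  rcases (show a < 8 ∨ (8 ≤ a ∧ a < 16) ∨ (16 ≤ a ∧ a < 24) ∨ (24 ≤ a ∧ a < 32) by omega) with
    h | h | h | h
  · exact List.all_eq_true.mp outer0 a (List.mem_range.mpr h)
  · have e := List.all_eq_true.mp outer1 (a - 8) (List.mem_range.mpr (by omega))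
    rwa [show 8 + (a - 8) = a by omega] at e
  · have e := List.all_eq_true.mp outer2 (a - 16) (List.mem_range.mpr (by omega))
    rwa [show 16 + (a - 16) = a by omega] at e
  · have e := List.all_eq_true.mp outer3 (a - 24) (List.mem_range.mpr (by omega))
    rwa [show 24 + (a - 24) = a by omega] at e

theorem img_zero : sameW (wsub imgW [0]) [0] = true := by decide +kernel

theorem img_letters : (imgW.all fun w => checkLetters 4 [w]) = true := by decide +kernel

end CfsgLib.J3Local
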