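import Cfsg.Agent.J3Local.Cover
import Cfsg.Agent.J3Local.Bridge
import Cfsg.Agent.Schur.Basic
import Mathlib.GroupTheory.Abelianization.Defs
import Mathlib.Algebra.Group.Shrink

/-! The Schur multiplier is cyclic of order three. -/

set_option autoImplicit false
set_option maxRecDepth 100000

namespace CfsgLib.J3Local

open CfsgLib.Coset CfsgLib.Coset.J3

theorem H3_sq (x : H3) (hx : x ∈ Lh) : x * x = 1 := by
  obtain ⟨l, hl, rfl⟩ := List.getElem_of_mem hx
  have hl4 : l < 4 := hl
  refine toGL_injective (Units.ext ?_)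
  rw [map_mul, Units.val_mul, map_one, Units.val_one]
  interval_cases l <;> exact uMat_sq _

theorem center_le_commutator : Subgroup.center H3 ≤ commutator H3 := by
  intro x hx
  have hsq : ∀ y : Abelianization H3, y * y = 1 := by
    intro y
    obtain ⟨g, rfl⟩ := QuotientGroup.mk_surjective y
    have hg : g ∈ Subgroup.closure {x | x ∈ Lh} := closure_Lh ▸ Subgroup.mem_top g
    show Abelianization.of g * Abelianization.of g = 1
    induction hg using Subgroup.closure_induction with
    | mem a ha => rw [← map_mul, H3_sq a ha, map_one]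
    | one => simp
    | mul a b _ _ iha ihb => rw [map_mul, mul_mul_mul_comm, iha, ihb, one_mul]
    | inv a _ ih => rw [map_inv, ← mul_inv, ih, inv_one]
  have h3 : x ^ 3 = 1 := by
    have : (⟨x, hx⟩ : Subgroup.center H3) ^ Nat.card (Subgroup.center H3) = 1 := pow_card_eq_one'
    rw [triple_cover.1] at this
    exact congrArg Subtype.val this
  refine (QuotientGroup.eq_one_iff x).mp ?_
  show Abelianization.of x = 1
  have e : Abelianization.of x ^ 3 = 1 := by rw [← map_pow, h3, map_one]
  rwa [pow_succ, pow_two, hsq, one_mul] at e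

/-- The triple cover maps onto the simple group. -/
theorem exists_stem : ∃ (σ : H3 →* P), Cfsg.IsStemExtension σ ∧ Nat.card σ.ker = 3 := by
  obtain ⟨e⟩ := nonempty_equiv (Subgroup.center H3) S3_le_center center_ne_top
  have hk : (e.symm.toMonoidHom.comp (QuotientGroup.mk' (Subgroup.center H3))).ker =
      Subgroup.center H3 := by
    ext g
    simp [MonoidHom.mem_ker]
  refine ⟨_, ⟨e.symm.surjective.comp (QuotientGroup.mk'_surjective _), hk.le, ?_⟩, ?_⟩
  · rw [hk]; exact center_le_commutator
  · rw [hk]; exact triple_cover.1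

theorem hasMultiplier : Cfsg.HasSchurMultiplier P (Multiplicative (ZMod 3)) := by
  have := finite_P
  have hfin : Finite H3 := by
    have : Finite G24.F4 := inferInstance
    exact Finite.of_injective toGL toGL_injective
  obtain ⟨⟨Γ, iG, iF, σ, hσ, ⟨iso⟩⟩, huniv⟩ := Schur.hasSchurMultiplier_mult P
  have hle : Nat.card (Schur.mult P) ≤ 3 := by
    rw [← Nat.card_congr iso.toEquiv]; exact Cover.card_ker_le hσ
  obtain ⟨σ3, h3, hc3⟩ := exists_stem
  obtain ⟨π, hπ⟩ := huniv H3 σ3 h3
  have hge := Nat.card_le_card_of_surjective π hπ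
  have hm : Nat.card (Schur.mult P) = 3 := by omega
  have : Fact (Nat.Prime 3) := ⟨Nat.prime_three⟩
  let e3 : Multiplicative (ZMod 3) ≃* Schur.mult P := mulEquivOfPrimeCardEq (p := 3) (by simp) hm
  refine ⟨⟨Γ, iG, iF, σ, hσ, ⟨iso.trans e3.symm⟩⟩, fun Δ _ _ τ hτ => ?_⟩
  obtain ⟨π', hπ'⟩ := huniv Δ τ hτ
  exact ⟨π'.comp e3.toMonoidHom, hπ'.comp e3.surjective⟩

/-- The multiplier of an isomorphic group, in any universe. -/
theorem hasMultiplier_of_equiv {G : Type*} [Group G] (e : P ≃* G) :
    Cfsg.HasSchurMultiplier G (Multiplicative (ZMod 3)) := by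
  obtain ⟨⟨Γ, iG, iF, σ, ⟨h1, h2, h3⟩, ⟨iso⟩⟩, huniv⟩ := hasMultiplier
  let up : ULift Γ ≃* Γ := MulEquiv.ulift
  refine ⟨⟨ULift Γ, inferInstance, inferInstance,
    e.toMonoidHom.comp (σ.comp up.toMonoidHom), ⟨?_, ?_, ?_⟩, ?_⟩, ?_⟩
  · exact e.surjective.comp (h1.comp up.surjective)
  · intro g hg
    have hg0 : e (σ (up g)) = 1 := hg
    have hg' : up g ∈ σ.ker := e.injective (hg0.trans (map_one e).symm)
    refine Subgroup.mem_center_iff.mpr fun y => up.injective ?_
    rw [map_mul, map_mul]
    exact Subgroup.mem_center_iff.mp (h2 hg') _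
  · intro g hg
    have hg0 : e (σ (up g)) = 1 := hg
    have hg' : up g ∈ σ.ker := e.injective (hg0.trans (map_one e).symm)
    have h := Subgroup.mem_map_of_mem up.symm.toMonoidHom (h3 hg')
    rw [commutator_def, Subgroup.map_commutator] at h
    rw [commutator_def]
    simpa using Subgroup.commutator_mono le_top le_top h
  · have hk : (e.toMonoidHom.comp (σ.comp up.toMonoidHom)).ker = σ.ker.map up.symm.toMonoidHom := by
      ext g
      rw [Subgroup.mem_map]
      constructor
      · intro hg
        have hg0 : e (σ (up g)) = 1 := hg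
        exact ⟨up g, e.injective (hg0.trans (map_one e).symm), up.symm_apply_apply g⟩
      · rintro ⟨a, ha, rfl⟩
        simpa [MonoidHom.mem_ker] using ha
    exact ⟨(MulEquiv.subgroupCongr hk).trans ((up.symm.subgroupMap σ.ker).symm.trans iso)⟩
  · intro Δ _ _ τ hτ
    let sh : Shrink.{0} Δ ≃* Δ := Shrink.mulEquiv
    have : Finite (Shrink.{0} Δ) := Finite.of_equiv _ sh.symm.toEquiv
    let τ' : Shrink.{0} Δ →* P := e.symm.toMonoidHom.comp (τ.comp sh.toMonoidHom)
    have hk : τ'.ker = τ.ker.map sh.symm.toMonoidHom := by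
      ext g
      rw [Subgroup.mem_map]
      constructor
      · intro hg
        have hg0 : e.symm (τ (sh g)) = 1 := hg
        exact ⟨sh g, e.symm.injective (hg0.trans (map_one e.symm).symm), sh.symm_apply_apply g⟩
      · rintro ⟨a, ha, rfl⟩
        simpa [τ', MonoidHom.mem_ker] using ha
    obtain ⟨π, hπ⟩ := huniv (Shrink.{0} Δ) τ' ⟨e.symm.surjective.comp (hτ.1.comp sh.surjective), by
        rw [hk]
        rintro _ ⟨a, ha, rfl⟩
        refine Subgroup.mem_center_iff.mpr fun y => sh.injective ?_
        simp only [map_mul, MulEquiv.coe_toMonoidHom, MulEquiv.apply_symm_apply]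
        exact Subgroup.mem_center_iff.mp (hτ.2.1 ha) _, by
        rw [hk]
        refine le_trans (Subgroup.map_mono hτ.2.2) ?_
        rw [commutator_def, Subgroup.map_commutator, commutator_def]
        exact Subgroup.commutator_mono le_top le_top⟩
    let j : τ'.ker ≃* τ.ker := (MulEquiv.subgroupCongr hk).trans (sh.symm.subgroupMap τ.ker).symm
    exact ⟨j.toMonoidHom.comp π, j.surjective.comp hπ⟩

end CfsgLib.J3Local
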